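import Cfsg.Agent.Lib.Solvable.WardReduction
import Cfsg.Agent.Lib.LocalEven.CoprimeGeneration
import Cfsg.Agent.Lib.Transfer.SmallSylow
import Cfsg.Agent.Lib.FGS.CoprimeNilpotentMaximal

/-!
A noncyclic group of order `q ^ 2` acting coprimely with abelian fixed-point subgroups and no common
fixed point: restriction, quotients, invariant Sylow subgroups.
-/

set_option autoImplicit false

namespace CfsgLib.Solvable.AbCent

open Subgroup CfsgLib.FGS.NilpotentMaximal

universe u

variable {A : Type*} [CommGroup A] [Finite A] {q : ℕ} [hq : Fact q.Prime]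
  {G : Type u} [Group G] [Finite G] {φ : A →* MulAut G}

/-- The standing hypothesis. -/
structure Hyp (q : ℕ) (φ : A →* MulAut G) : Prop where
  cardA : Nat.card A = q ^ 2
  exp : ∀ a : A, a ^ q = 1
  cop : ¬ q ∣ Nat.card G
  comm : ∀ a : A, a ≠ 1 → ∀ x y : G, φ a x = x → φ a y = y → Commute x y
  fix : ∀ x : G, (∀ a, φ a x = x) → x = 1

/-- The fixed points of one operator. -/
def fx (φ : A →* MulAut G) (a : A) : Subgroup G where
  carrier := {x | φ a x = x}
  one_mem' := map_one _
  mul_mem' := fun {x y} hx hy => by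
    show φ a (x * y) = x * y
    rw [map_mul, show φ a x = x from hx, show φ a y = y from hy]
  inv_mem' := fun {x} hx => by
    show φ a x⁻¹ = x⁻¹
    rw [map_inv, show φ a x = x from hx]

omit [Finite A] [Finite G] in
theorem mem_fx {a : A} {x : G} : x ∈ fx φ a ↔ φ a x = x := Iff.rfl

omit [Finite A] [Finite G] in
theorem inv_fx (a : A) : Inv φ (fx φ a) := fun c x hx => by
  rw [mem_fx] at hx ⊢
  rw [← MulAut.mul_apply, ← map_mul, mul_comm, map_mul, MulAut.mul_apply, hx]

omit [Finite A] [Finite G] in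
theorem inv_inf {H K : Subgroup G} (hH : Inv φ H) (hK : Inv φ K) : Inv φ (H ⊓ K) :=
  fun a x hx => ⟨hH a x hx.1, hK a x hx.2⟩

omit [Finite A] [Finite G] in
theorem inv_sup {H K : Subgroup G} (hH : Inv φ H) (hK : Inv φ K) : Inv φ (H ⊔ K) := by
  intro a x hx
  have h : H ⊔ K ≤ (H ⊔ K).comap (φ a).toMonoidHom :=
    sup_le (fun y hy => mem_sup_left (hH a y hy)) (fun y hy => mem_sup_right (hK a y hy))
  exact h hx

omit [Finite A] [Finite G] in
theorem inv_bot : Inv φ (⊥ : Subgroup G) := fun a x hx => by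
  rw [mem_bot] at hx ⊢; rw [hx, map_one]

omit [Finite A] [Finite G] in
theorem inv_centralizer {H : Subgroup G} (hH : Inv φ H) : Inv φ (centralizer (H : Set G)) := by
  intro a x hx
  rw [mem_centralizer_iff] at hx ⊢
  intro y hy
  have h := hx (φ a⁻¹ y) (hH _ y hy)
  have e : φ a (φ a⁻¹ y) = y := by rw [← MulAut.mul_apply, ← map_mul, mul_inv_cancel, map_one]; rfl
  have h2 := congrArg (φ a) h
  rwa [map_mul, map_mul, e] at h2

omit [Finite A] in
theorem inv_of_characteristic {H : Subgroup G} (h : H.Characteristic) : Inv φ H :=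
  fun a x hx => CfsgLib.Solvable.apply_mem_of_characteristic (φ a) H hx

theorem fixed_of_two (h : Hyp q φ) {a b : A} (ha : a ≠ 1) (hb : b ∉ zpowers a) {x : G}
    (hxa : φ a x = x) (hxb : φ b x = x) : x = 1 := by
  refine h.fix x fun d => ?_
  obtain ⟨i, k, rfl⟩ := exists_pow_mul_pow h.cardA h.exp ha hb d
  rw [map_mul, MulAut.mul_apply, map_pow, map_pow, pow_apply_fixed hxb, pow_apply_fixed hxa]

theorem inf_fx_eq_bot (h : Hyp q φ) {a b : A} (ha : a ≠ 1) (hb : b ∉ zpowers a) {X : Subgroup G}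
    (hX : X ≤ fx φ a) : X ⊓ fx φ b = ⊥ := by
  rw [eq_bot_iff]
  exact fun x hx => mem_bot.2 (fixed_of_two h ha hb (hX hx.1) hx.2)

theorem exists_notMem_zpowers (h : Hyp q φ) (a : A) : ∃ b, b ∉ zpowers a := by
  by_contra hcon
  push Not at hcon
  have h1 : Nat.card A ≤ q := by
    rw [← card_top (G := A), ← eq_top_iff.2 (fun y _ => hcon y : ⊤ ≤ zpowers a), Nat.card_zpowers]
    exact orderOf_le_of_pow_eq_one hq.out.pos (h.exp a)
  rw [h.cardA] at h1
  have := hq.out.two_le
  nlinarith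

theorem ne_one_of_notMem {a b : A} (h : b ∉ zpowers a) : b ≠ 1 := fun e => h (e ▸ one_mem _)

theorem notMem_symm (h : Hyp q φ) {a b : A} (ha : a ≠ 1) (hb : b ∉ zpowers a) : a ∉ zpowers b :=
  fun hab => hb (mem_zpowers_of_mem h.exp hab ha)

/-- Given two lines, a line different from each given one. -/
theorem exists_notMem_two (h : Hyp q φ) (a c : A) : ∃ b, b ∉ zpowers a ∧ b ∉ zpowers c := by
  obtain ⟨b, hb⟩ := exists_notMem_zpowers h a
  by_cases hbc : b ∈ zpowers c
  · by_cases ha : a ∈ zpowers c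
    · obtain ⟨d, hd⟩ := exists_notMem_zpowers h c
      exact ⟨d, fun hd' => hd (zpowers_le.2 ha hd'), hd⟩
    · refine ⟨a * b, fun hab => hb ?_, fun hab => ha ?_⟩
      · simpa using mul_mem (inv_mem (mem_zpowers a)) hab
      · simpa using mul_mem hab (inv_mem hbc)
  · exact ⟨b, hb, hbc⟩

/-- The operators restricted to an invariant subgroup. -/
def res (φ : A →* MulAut G) (H : Subgroup G) (hi : Inv φ H) : A →* MulAut H where
  toFun a :=
    { toFun := fun x => ⟨φ a x, hi a x x.2⟩
      invFun := fun x => ⟨φ a⁻¹ x, hi a⁻¹ x x.2⟩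
      left_inv := fun x => Subtype.ext (by
        show φ a⁻¹ (φ a (x : G)) = x
        rw [← MulAut.mul_apply, ← map_mul, inv_mul_cancel, map_one]; rfl)
      right_inv := fun x => Subtype.ext (by
        show φ a (φ a⁻¹ (x : G)) = x
        rw [← MulAut.mul_apply, ← map_mul, mul_inv_cancel, map_one]; rfl)
      map_mul' := fun x y => Subtype.ext (map_mul (φ a) (x : G) y) }
  map_one' := MulEquiv.ext fun x => Subtype.ext (by show φ 1 (x : G) = x; rw [map_one]; rfl)
  map_mul' a b := MulEquiv.ext fun x => Subtype.ext (by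
    show φ (a * b) (x : G) = φ a (φ b x); rw [map_mul]; rfl)

omit [Finite A] [Finite G] in
theorem res_coe {H : Subgroup G} (hi : Inv φ H) (a : A) (x : H) :
    ((res φ H hi a x : H) : G) = φ a x := rfl

theorem Hyp.res_hyp (h : Hyp q φ) {H : Subgroup G} (hi : Inv φ H) : Hyp q (res φ H hi) where
  cardA := h.cardA
  exp := h.exp
  cop := fun hd => h.cop (hd.trans H.card_subgroup_dvd_card)
  comm := fun a ha x y hx hy =>
    Subtype.ext (h.comm a ha x y (congrArg Subtype.val hx) (congrArg Subtype.val hy)).eq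
  fix := fun x hx => Subtype.ext (h.fix x fun a => congrArg Subtype.val (hx a))

/-- A coset fixed by one operator contains a fixed element. -/
theorem exists_lift {G : Type*} [Group G] [Finite G] {φ : A →* MulAut G} (hexp : ∀ a : A, a ^ q = 1)
    {N : Subgroup G} (hN : ¬ q ∣ Nat.card N) (hi : Inv φ N) {a : A} {x : G} (hx : x⁻¹ * φ a x ∈ N) :
    ∃ z, z⁻¹ * x ∈ N ∧ φ a z = z :=
  exists_fixed_in_coset (φ := φ a) (m := 1) (by rw [pow_one, ← map_pow, hexp, map_one]) hN
    (fun y hy => hi a y hy) hx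

theorem Hyp.quot_hyp (h : Hyp q φ) (N : Subgroup G) [N.Normal] (hi : Inv φ N) :
    Hyp q (quotAction φ N hi) where
  cardA := h.cardA
  exp := h.exp
  cop := fun hd => h.cop (hd.trans N.card_quotient_dvd_card)
  comm := fun a ha x y hx hy => by
    have hN : ¬ q ∣ Nat.card N := fun hd => h.cop (hd.trans N.card_subgroup_dvd_card)
    obtain ⟨x, rfl⟩ := QuotientGroup.mk'_surjective N x
    obtain ⟨y, rfl⟩ := QuotientGroup.mk'_surjective N y
    rw [quotAction_mk] at hx hy
    obtain ⟨z, hz, hza⟩ := exists_lift h.exp hN hi (QuotientGroup.eq.1 hx.symm)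
    obtain ⟨w, hw, hwa⟩ := exists_lift h.exp hN hi (QuotientGroup.eq.1 hy.symm)
    have hc := (h.comm a ha z w hza hwa).map (QuotientGroup.mk' N)
    rwa [show QuotientGroup.mk' N z = QuotientGroup.mk' N x from QuotientGroup.eq.2 hz,
      show QuotientGroup.mk' N w = QuotientGroup.mk' N y from QuotientGroup.eq.2 hw] at hc
  fix := fun x hx => by
    have hN : ¬ q ∣ Nat.card N := fun hd => h.cop (hd.trans N.card_subgroup_dvd_card)
    obtain ⟨x, rfl⟩ := QuotientGroup.mk'_surjective N x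
    obtain ⟨z, hz, hzfix⟩ := exists_common_fixed_in_coset (IsPGroup.of_card h.cardA) φ hN
      (fun a y hy => hi a y hy) (x := x) (fun a => QuotientGroup.eq.1 (by
        have := hx a; rw [quotAction_mk] at this; exact this.symm))
    rw [h.fix z hzfix, inv_one, one_mul] at hz
    exact (QuotientGroup.eq_one_iff x).2 hz

theorem not_dvd_subgroup (h : Hyp q φ) (H : Subgroup G) : ¬ q ∣ Nat.card H :=
  fun hd => h.cop (hd.trans H.card_subgroup_dvd_card)

theorem coprime_card (h : Hyp q φ) : (Nat.card A).Coprime (Nat.card G) := by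
  rw [h.cardA]
  exact ((hq.out.coprime_iff_not_dvd).2 h.cop).pow_left 2

/-- An invariant subgroup is generated by its elements fixed by one operator, two lines being given. -/
theorem le_of_fixed_le_aux (hexp : ∀ a : A, a ^ q = 1) (hcop : ¬ q ∣ Nat.card G) {b c : A}
    (hb1 : b ≠ 1) (hc : c ∉ zpowers b) {K T : Subgroup G} (hK : Inv φ K)
    (hT : ∀ a : A, a ≠ 1 → K ⊓ fx φ a ≤ T) : K ≤ T := by
  classical
  haveI : Finite (G ⋊[φ] A) := Finite.of_equiv _ SemidirectProduct.equivProd.symm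
  set il := (SemidirectProduct.inl : G →* G ⋊[φ] A)
  set ir := (SemidirectProduct.inr : A →* G ⋊[φ] A)
  have hconj : ∀ (a : A) (g : G), ir a * il g * (ir a)⁻¹ = il (φ a g) := fun a g => by
    rw [SemidirectProduct.inl_aut, map_inv]
  have hn : ∀ a : A, ir a ∈ normalizer ((K.map il : Subgroup _) : Set (G ⋊[φ] A)) := by
    intro a
    refine CfsgLib.Solvable.mem_normalizer_of_conj_mem ?_
    rintro _ ⟨g, hg, rfl⟩
    exact ⟨φ a g, hK a g hg, (hconj a g).symm⟩
  have hline : ∀ a : A, a ≠ 1 →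
      K.map il ⊓ centralizer ({ir a} : Set (G ⋊[φ] A)) ≤ T.map il := by
    rintro a ha _ ⟨⟨g, hg, rfl⟩, hc⟩
    refine mem_map_of_mem il (hT a ha ⟨hg, ?_⟩)
    have e : ir a * il g = il g * ir a := (mem_centralizer_singleton_iff.1 hc).symm
    exact SemidirectProduct.inl_injective (by
      rw [← hconj, e, mul_inv_cancel_right] : il (φ a g) = il g)
  have hmap := CfsgLib.LocalEven.le_of_line_centralizers (p := q) (x := ir b) (y := ir c)
    (by rw [← map_pow, hexp, map_one]) (by rw [← map_pow, hexp, map_one])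
    ((Commute.all b c).map ir) (K := K.map il) (H := T.map il)
    (by rw [card_map_of_injective SemidirectProduct.inl_injective]
        exact ((hq.out.coprime_iff_not_dvd).2 fun hd => hcop (hd.trans K.card_subgroup_dvd_card)).symm)
    (hn b) (hn c) (hline b hb1) (fun i => by
      rw [← map_pow, ← map_mul]
      refine hline _ fun e => hc ?_
      rw [eq_inv_of_mul_eq_one_left e]
      exact inv_mem (pow_mem (mem_zpowers b) i))
  exact (map_le_map_iff_of_injective SemidirectProduct.inl_injective).1 hmap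

/-- An invariant subgroup is generated by its elements fixed by one operator. -/
theorem le_of_fixed_le (h : Hyp q φ) {K T : Subgroup G} (hK : Inv φ K)
    (hT : ∀ a : A, a ≠ 1 → K ⊓ fx φ a ≤ T) : K ≤ T := by
  obtain ⟨b, hb⟩ := exists_notMem_zpowers h (1 : A)
  obtain ⟨c, hc⟩ := exists_notMem_zpowers h b
  exact le_of_fixed_le_aux h.exp h.cop (ne_one_of_notMem hb) hc hK hT

theorem exists_syl (h : Hyp q φ) (p : ℕ) [Fact p.Prime] : ∃ P : Sylow p G, Inv φ (P : Subgroup G) :=
  CfsgLib.FGS.NilpotentMaximal.exists_invariant_sylow φ (coprime_card h) (Or.inl inferInstance) p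

/-- The invariant Sylow subgroup is unique. -/
theorem syl_unique (h : Hyp q φ) {p : ℕ} [Fact p.Prime] {P P' : Sylow p G}
    (hP : Inv φ (P : Subgroup G)) (hP' : Inv φ (P' : Subgroup G)) :
    (P : Subgroup G) = (P' : Subgroup G) := by
  obtain ⟨g, hg⟩ := MulAction.exists_smul_eq G P P'
  have hcoe : ∀ x, x ∈ (P' : Subgroup G) ↔ g⁻¹ * x * g ∈ (P : Subgroup G) := by
    intro x
    rw [← hg, Sylow.coe_subgroup_smul, Subgroup.mem_pointwise_smul_iff_inv_smul_mem]
    simp [MulAut.smul_def]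
  have hmem : ∀ a, g⁻¹ * φ a g ∈ normalizer ((P : Subgroup G) : Set G) := by
    intro a
    refine CfsgLib.Solvable.mem_normalizer_of_conj_mem fun x hx => ?_
    obtain ⟨y, hy, rfl⟩ : ∃ y ∈ (P : Subgroup G), φ a y = x :=
      ⟨φ a⁻¹ x, hP a⁻¹ x hx, by rw [← MulAut.mul_apply, ← map_mul, mul_inv_cancel, map_one]; rfl⟩
    have h1 : φ a (g * y * g⁻¹) ∈ (P' : Subgroup G) :=
      hP' a _ ((hcoe _).2 (by simpa [mul_assoc] using hy))
    have h2 := (hcoe _).1 h1
    simpa [map_mul, map_inv, mul_assoc] using h2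
  obtain ⟨z, hz, hzfix⟩ := exists_common_fixed_in_coset (IsPGroup.of_card h.cardA) φ
    (not_dvd_subgroup h _) (fun a x hx => inv_normalizer hP a x hx) (x := g) hmem
  rw [h.fix z hzfix, inv_one, one_mul] at hz
  ext x
  rw [hcoe]
  have h1 := mem_normalizer_iff.1 (inv_mem hz) x
  rwa [inv_inv] at h1

/-- The invariant Sylow `p`-subgroup. -/
noncomputable def syl (h : Hyp q φ) (p : ℕ) [Fact p.Prime] : Sylow p G := (exists_syl h p).choose

theorem inv_syl (h : Hyp q φ) (p : ℕ) [Fact p.Prime] : Inv φ (syl h p : Subgroup G) :=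
  (exists_syl h p).choose_spec

theorem le_syl (h : Hyp q φ) {p : ℕ} [Fact p.Prime] {X : Subgroup G} (hX : IsPGroup p X)
    (hXi : Inv φ X) : X ≤ (syl h p : Subgroup G) := by
  obtain ⟨Y, ⟨hXY, hYp, hYi⟩, hmax⟩ := Set.Finite.exists_maximal
    (s := {Y : Subgroup G | X ≤ Y ∧ IsPGroup p Y ∧ Inv φ Y}) (Set.toFinite _) ⟨X, le_rfl, hX, hXi⟩
  set N := normalizer (Y : Set G) with hN
  have hNi : Inv φ N := inv_normalizer hYi
  obtain ⟨R, hR⟩ := exists_syl (h.res_hyp hNi) p
  have hYR : Y.subgroupOf N ≤ (R : Subgroup N) := by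
    haveI : (Y.subgroupOf N).Normal := normal_in_normalizer
    exact IsPGroup.le_sylow_of_normal (N := Y.subgroupOf N) (hYp.comap_of_injective N.subtype N.subtype_injective) R
  set R' := (R : Subgroup N).map N.subtype
  have hR'i : Inv φ R' := by
    rintro a _ ⟨x, hx, rfl⟩
    exact ⟨res φ N hNi a x, hR a x hx, rfl⟩
  have hYR' : Y ≤ R' := fun y hy =>
    ⟨⟨y, le_normalizer hy⟩, hYR hy, rfl⟩
  have hR'Y : R' ≤ Y := hmax ⟨hXY.trans hYR', R.2.map _, hR'i⟩ hYR'
  obtain ⟨P, hP⟩ := hYp.exists_le_sylow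
  have hYP : Y = (P : Subgroup G) := by
    by_contra hne
    haveI : Group.IsNilpotent (P : Subgroup G) := P.2.isNilpotent
    obtain ⟨g, hgP, hgY, hgN⟩ : ∃ g ∈ (P : Subgroup G), g ∉ Y ∧ g ∈ N := by
      have hlt : Y.subgroupOf (P : Subgroup G) < ⊤ := by
        rw [lt_top_iff_ne_top, Ne, subgroupOf_eq_top]
        exact fun hle => hne (le_antisymm hP hle)
      obtain ⟨g, hgN, hgY⟩ := SetLike.exists_of_lt (Group.normalizerCondition_of_isNilpotent _ hlt)
      refine ⟨g, g.2, fun hg => hgY hg, CfsgLib.Solvable.mem_normalizer_of_conj_mem fun y hy => ?_⟩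
      exact (mem_normalizer_iff.1 hgN ⟨y, hP hy⟩).1 hy
    -- then `|R| > |Y|`
    set W := ((P : Subgroup G) ⊓ N).subgroupOf N
    have hWp : IsPGroup p W :=
      (P.2.to_le inf_le_left).comap_of_injective N.subtype N.subtype_injective
    obtain ⟨R₁, hR₁⟩ := hWp.exists_le_sylow
    have hc1 : Nat.card W ≤ Nat.card (R₁ : Subgroup N) := Nat.card_le_card_of_injective
      (Subgroup.inclusion hR₁) (Subgroup.inclusion_injective hR₁)
    rw [R₁.card_eq_multiplicity, ← R.card_eq_multiplicity] at hc1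
    have hc2 : Nat.card (R : Subgroup N) ≤ Nat.card Y := by
      rw [← card_map_of_injective (f := N.subtype) N.subtype_injective]
      exact Nat.card_le_card_of_injective (Subgroup.inclusion hR'Y) (Subgroup.inclusion_injective _)
    have hc3 : Nat.card Y < Nat.card ((P : Subgroup G) ⊓ N : Subgroup G) := by
      refine lt_of_le_of_ne (Nat.card_le_card_of_injective
        (Subgroup.inclusion (le_inf hP le_normalizer)) (Subgroup.inclusion_injective _)) fun e => ?_
      exact hgY ((eq_of_le_of_card_ge (le_inf hP le_normalizer) e.ge).ge ⟨hgP, hgN⟩)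
    rw [show Nat.card W = Nat.card ((P : Subgroup G) ⊓ N : Subgroup G) from
      Nat.card_congr (subgroupOfEquivOfLe inf_le_right).toEquiv] at hc1
    omega
  subst hYP
  exact hXY.trans (syl_unique h hYi (inv_syl h p)).le

/-- The elements of `p`-power order fixed by one operator lie in the invariant Sylow subgroup. -/
theorem mem_syl_of_fixed (h : Hyp q φ) {p : ℕ} [Fact p.Prime] {a : A} (ha : a ≠ 1) {x : G}
    (hxa : φ a x = x) {k : ℕ} (hx : x ^ p ^ k = 1) : x ∈ (syl h p : Subgroup G) := by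
  let X : Subgroup G :=
    { carrier := {y | φ a y = y ∧ ∃ k : ℕ, y ^ p ^ k = 1}
      one_mem' := ⟨map_one _, 0, one_pow _⟩
      mul_mem' := fun {y z} hy hz => ⟨(fx φ a).mul_mem hy.1 hz.1, by
        obtain ⟨k, hk⟩ := hy.2
        obtain ⟨l, hl⟩ := hz.2
        refine ⟨k + l, ?_⟩
        rw [(h.comm a ha y z hy.1 hz.1).mul_pow, pow_add, pow_mul, hk, one_pow, one_mul, mul_comm,
          pow_mul, hl, one_pow]⟩
      inv_mem' := fun {y} hy => ⟨(fx φ a).inv_mem hy.1, by
        obtain ⟨k, hk⟩ := hy.2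
        exact ⟨k, by rw [inv_pow, hk, inv_one]⟩⟩ }
  refine le_syl h (X := X) (fun y => ?_) (fun c y hy => ⟨inv_fx a c y hy.1, ?_⟩) ⟨hxa, k, hx⟩
  · obtain ⟨k, hk⟩ := y.2.2
    exact ⟨k, Subtype.ext hk⟩
  · obtain ⟨k, hk⟩ := hy.2
    exact ⟨k, by rw [← map_pow, hk, map_one]⟩

/-- A subgroup contains the fixed points of `a` in `H` as soon as it contains their Sylow pieces. -/
theorem fx_le_of_pieces (h : Hyp q φ) {a : A} (ha : a ≠ 1) {H T : Subgroup G}
    (hT : ∀ (t : ℕ) [Fact t.Prime], H ⊓ fx φ a ⊓ (syl h t : Subgroup G) ≤ T) : H ⊓ fx φ a ≤ T := by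
  intro x hx
  refine CfsgLib.Transfer.mem_of_prime_pow_powers T (isOfFinOrder_of_finite x) fun y hy t k ht _ hk => ?_
  haveI := Fact.mk ht
  have hy' : y ∈ H ⊓ fx φ a := zpowers_le.2 hx hy
  exact hT t ⟨hy', mem_syl_of_fixed h ha hy'.2 (k := k) (by rw [← hk]; exact pow_orderOf_eq_one y)⟩

end CfsgLib.Solvable.AbCent
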