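import Cfsg.Agent.Lib.Solvable.AbelianCentralizers.Setup
import Cfsg.Prelude.Def_Amalgam

/-!
Cores of invariant solvable subgroups under the standing hypothesis.
-/

set_option autoImplicit false

namespace CfsgLib.Solvable.AbCent

open Subgroup CfsgLib.FGS.NilpotentMaximal Cfsg

universe u

variable {A : Type*} [CommGroup A] [Finite A] {q : ℕ} [hq : Fact q.Prime]
  {G : Type u} [Group G] [Finite G] {φ : A →* MulAut G}

/-- An element of `l`-power order centralizing the other cores lies in the `l`-core. -/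
theorem mem_pCore_of_centralizes (h : Hyp q φ) [Group.IsSolvable G] {l : ℕ} [Fact l.Prime] {x : G}
    {k : ℕ} (hx : x ^ l ^ k = 1)
    (hc : ∀ r : ℕ, r.Prime → r ≠ l → x ∈ centralizer (pCore r G : Set G)) : x ∈ pCore l G := by
  set F := fittingSubgroup G with hF
  haveI : F.Normal := CfsgLib.Cores.fittingSubgroup_normal
  haveI hnil : Group.IsNilpotent (G ⧸ F) := isNilpotent_quotient_fitting h.cardA h.exp φ h.fix
  have hz : IsPGroup l (zpowers (QuotientGroup.mk' F x)) := by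
    obtain ⟨i, -, hi⟩ := (Nat.dvd_prime_pow Fact.out).1 (orderOf_dvd_of_pow_eq_one
      (show (QuotientGroup.mk' F x) ^ l ^ k = 1 by rw [← map_pow, hx, map_one]))
    exact IsPGroup.of_card (by rw [Nat.card_zpowers, hi])
  obtain ⟨S, hS⟩ := hz.exists_le_sylow
  haveI hSn : (S : Subgroup (G ⧸ F)).Normal :=
    ((Group.isNilpotent_of_finite_tfae (G := G ⧸ F)).out 0 3 rfl rfl).1 hnil l inferInstance S
  set L := (S : Subgroup (G ⧸ F)).comap (QuotientGroup.mk' F)
  have hxL : x ∈ L := hS (mem_zpowers _)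
  haveI : L.Normal := hSn.comap _
  refine mem_pCore_of_mem_fitting (mem_fitting_of_centralizes L (fun y hy => ?_) hxL hc) hx
  obtain ⟨i, hi⟩ := S.2 ⟨QuotientGroup.mk' F y, hy⟩
  refine ⟨i, (QuotientGroup.eq_one_iff _).1 ?_⟩
  have := congrArg Subtype.val hi
  simp only [SubmonoidClass.coe_pow, OneMemClass.coe_one, ← map_pow] at this
  exact this

section
omit [Finite A]

omit [Finite G] in
theorem co_le {p : ℕ} {H : Subgroup G} : pCoreOf p H ≤ H := map_subtype_le _

theorem isPGroup_co (p : ℕ) (H : Subgroup G) : IsPGroup p (pCoreOf p H) :=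
  (CfsgLib.Cores.isPGroup_pCore p).map _

omit [Finite G] in
theorem le_normalizer_co (p : ℕ) (H : Subgroup G) : H ≤ normalizer (pCoreOf p H : Set G) := by
  haveI : (pCore p H).Characteristic := CfsgLib.Cores.pCore_characteristic p
  intro g hg
  rw [mem_normalizer_iff]
  intro n
  constructor
  · rintro ⟨y, hy, rfl⟩
    exact ⟨⟨g, hg⟩ * y * ⟨g, hg⟩⁻¹, (inferInstance : (pCore p H).Normal).conj_mem y hy _, rfl⟩
  · rintro ⟨y, hy, hyn⟩
    refine ⟨⟨g, hg⟩⁻¹ * y * ⟨g, hg⟩, ?_, ?_⟩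
    · simpa using (inferInstance : (pCore p H).Normal).conj_mem y hy (⟨g, hg⟩⁻¹)
    · simp only [coe_subtype] at hyn
      simp [hyn, mul_assoc]

theorem inv_co {p : ℕ} {H : Subgroup G} (hH : Inv φ H) : Inv φ (pCoreOf p H) := by
  rintro a _ ⟨y, hy, rfl⟩
  haveI : (pCore p H).Characteristic := CfsgLib.Cores.pCore_characteristic p
  exact ⟨res φ H hH a y, CfsgLib.Solvable.apply_mem_of_characteristic (res φ H hH a) (pCore p H) hy,
    rfl⟩

theorem le_co {p : ℕ} {H N : Subgroup G} (hNH : N ≤ H) (hN : IsPGroup p N)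
    (hn : H ≤ normalizer (N : Set G)) : N ≤ pCoreOf p H := by
  haveI : (N.subgroupOf H).Normal := (normal_subgroupOf_iff_le_normalizer hNH).2 hn
  intro x hx
  exact ⟨⟨x, hNH hx⟩, CfsgLib.Cores.le_pCore (N := N.subgroupOf H)
    (hN.comap_of_injective H.subtype H.subtype_injective) (mem_subgroupOf.2 hx), rfl⟩

end

/-- The subgroup form. -/
theorem mem_co_of_centralizes (h : Hyp q φ) {H : Subgroup G} (hHi : Inv φ H)
    (hs : Group.IsSolvable H) {l : ℕ} [Fact l.Prime] {x : G} (hxH : x ∈ H) {k : ℕ}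
    (hx : x ^ l ^ k = 1)
    (hc : ∀ r : ℕ, r.Prime → r ≠ l → x ∈ centralizer (pCoreOf r H : Set G)) : x ∈ pCoreOf l H := by
  haveI := hs
  refine ⟨⟨x, hxH⟩, mem_pCore_of_centralizes (h.res_hyp hHi) (Subtype.ext hx) fun r hr hrl => ?_, rfl⟩
  refine mem_centralizer_iff.2 fun y hy => Subtype.ext ?_
  exact mem_centralizer_iff.1 (hc r hr hrl) (y : G) ⟨y, hy, rfl⟩

end CfsgLib.Solvable.AbCent
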