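import Cfsg.Agent.Lib.Solvable.AbelianCentralizers.Pairs
import Cfsg.Agent.Lib.Solvable.Wielandt

/-!
A finite group with a coprime noncyclic group of operators of order `q ^ 2` all of whose nontrivial
elements have abelian fixed-point subgroups is solvable.
-/

set_option autoImplicit false

namespace CfsgLib.Solvable.AbCent

open Subgroup CfsgLib.FGS.NilpotentMaximal Cfsg

universe u

variable {A : Type*} [CommGroup A] [Finite A] {q : ℕ} [hq : Fact q.Prime]
  {G : Type u} [Group G] [Finite G] {φ : A →* MulAut G}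

theorem Perm.exchange {h : Hyp q φ} {p r : ℕ} [Fact p.Prime] [Fact r.Prime] (hperm : Perm h p r)
    (hpr : p ≠ r) {x y : G} (hx : x ∈ (syl h p : Subgroup G)) (hy : y ∈ (syl h r : Subgroup G)) :
    ∃ x' ∈ (syl h p : Subgroup G), ∃ y' ∈ (syl h r : Subgroup G), y * x = x' * y' := by
  classical
  obtain ⟨H, -, hpi, hP, hR⟩ := hperm
  set P := (syl h p : Subgroup G) with hPdef
  set R := (syl h r : Subgroup G) with hRdef
  let f : P × R → H := fun z => ⟨z.1 * z.2, mul_mem (hP z.1.2) (hR z.2.2)⟩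
  have hdis : P ⊓ R = ⊥ :=
    disjoint_iff.1 (IsPGroup.disjoint_of_ne p r hpr P R (syl h p).2 (syl h r).2)
  have hf : Function.Injective f := fun z w e => by
    have e1 : (z.1 : G) * z.2 = w.1 * w.2 := congrArg Subtype.val e
    have e2 : (w.1 : G)⁻¹ * z.1 = w.2 * (z.2 : G)⁻¹ := by
      calc (w.1 : G)⁻¹ * z.1 = (w.1 : G)⁻¹ * (z.1 * z.2) * (z.2 : G)⁻¹ := by group
        _ = _ := by rw [e1]; group
    have e3 : (w.1 : G)⁻¹ * z.1 ∈ P ⊓ R :=
      ⟨P.mul_mem (P.inv_mem w.1.2) z.1.2, e2 ▸ R.mul_mem w.2.2 (R.inv_mem z.2.2)⟩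
    rw [hdis, mem_bot] at e3
    refine Prod.ext (Subtype.ext (inv_mul_eq_one.1 e3).symm) (Subtype.ext ?_)
    rw [e3] at e2
    exact (mul_inv_eq_one.1 e2.symm).symm
  have hdvd : Nat.card H ∣ Nat.card P * Nat.card R := by
    rw [Nat.dvd_iff_prime_pow_dvd_dvd]
    intro t k ht hk
    rcases Nat.eq_zero_or_pos k with rfl | hk0
    · simp
    have hkG := hk.trans H.card_subgroup_dvd_card
    rw [ht.pow_dvd_iff_le_factorization Nat.card_pos.ne'] at hkG
    rcases hpi t ht ((dvd_pow_self t hk0.ne').trans hk) with e | e <;> subst e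
    · refine Dvd.dvd.mul_right ?_ _
      rw [hPdef, (syl h t).card_eq_multiplicity]; exact pow_dvd_pow _ hkG
    · refine Dvd.dvd.mul_left ?_ _
      rw [hRdef, (syl h t).card_eq_multiplicity]; exact pow_dvd_pow _ hkG
  have hbij : Function.Bijective f := by
    refine (Nat.bijective_iff_injective_and_card f).2 ⟨hf, le_antisymm
      (Nat.card_le_card_of_injective f hf) ?_⟩
    rw [Nat.card_prod]
    exact Nat.le_of_dvd (Nat.mul_pos Nat.card_pos Nat.card_pos) hdvd
  obtain ⟨z, hz⟩ := hbij.2 ⟨y * x, mul_mem (hR hy) (hP hx)⟩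
  exact ⟨z.1, z.1.2, z.2, z.2.2, (congrArg Subtype.val hz).symm⟩

/-- The product of the invariant Sylow subgroups of a set of primes. -/
theorem Min.exists_product (M : Min q φ) (S : Finset ℕ) (hS : ∀ t ∈ S, t.Prime ∧ t ∣ Nat.card G) :
    ∃ K : Subgroup G, (∀ t : ℕ, t.Prime → t ∣ Nat.card K → t ∈ S) ∧ Inv φ K ∧
      (∀ (u : ℕ) [Fact u.Prime], u ∈ S → (syl M.hyp u : Subgroup G) ≤ K) ∧
      ∀ L : Subgroup G, (∀ (u : ℕ) [Fact u.Prime], u ∈ S → (syl M.hyp u : Subgroup G) ≤ L) → K ≤ L := by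
  classical
  induction S using Finset.induction_on with
  | empty =>
    refine ⟨⊥, fun t ht hd => ?_, inv_bot, fun u _ hu => absurd hu (Finset.notMem_empty u),
      fun L _ => bot_le⟩
    rw [card_bot, Nat.dvd_one] at hd
    exact absurd hd ht.ne_one
  | insert t S htS ih =>
    obtain ⟨K, hK, hKi, hKle, hKmin⟩ := ih fun u hu => hS u (Finset.mem_insert_of_mem hu)
    obtain ⟨ht, htd⟩ := hS t (Finset.mem_insert_self t S)
    haveI := Fact.mk ht
    set T := (syl M.hyp t : Subgroup G) with hT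
    -- elements of `K` moved across `T`
    let B : Submonoid G :=
      { carrier := {y | y ∈ K ∧ ∀ x ∈ T, ∃ x' ∈ T, ∃ y' ∈ K, y * x = x' * y'}
        one_mem' := ⟨K.one_mem, fun x hx => ⟨x, hx, 1, K.one_mem, by rw [one_mul, mul_one]⟩⟩
        mul_mem' := fun {y z} hy hz => ⟨K.mul_mem hy.1 hz.1, fun x hx => by
          obtain ⟨x₁, hx₁, z₁, hz₁, e₁⟩ := hz.2 x hx
          obtain ⟨x₂, hx₂, y₁, hy₁, e₂⟩ := hy.2 x₁ hx₁
          exact ⟨x₂, hx₂, y₁ * z₁, K.mul_mem hy₁ hz₁, by
            rw [mul_assoc, e₁, ← mul_assoc, e₂, mul_assoc]⟩⟩ }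
    let B' : Subgroup G :=
      { B with
        inv_mem' := fun {y} hy => by
          obtain ⟨i, hi⟩ := (isOfFinOrder_of_finite y).mem_powers_iff_mem_zpowers.2
            (inv_mem (mem_zpowers y))
          rw [← hi]
          exact B.pow_mem hy i }
    have hKB : K ≤ B' := by
      refine hKmin B' fun u _ hu y hy => ⟨hKle u hu hy, fun x hx => ?_⟩
      have hut : t ≠ u := fun e => htS (e ▸ hu)
      obtain ⟨x', hx', y', hy', e⟩ :=
        (M.perm hut htd (hS u (Finset.mem_insert_of_mem hu)).2).exchange hut hx hy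
      exact ⟨x', hx', y', hKle u hu hy', e⟩
    let K' : Subgroup G :=
      { carrier := {g | ∃ x ∈ T, ∃ y ∈ K, g = x * y}
        one_mem' := ⟨1, T.one_mem, 1, K.one_mem, (one_mul 1).symm⟩
        mul_mem' := by
          rintro _ _ ⟨x, hx, y, hy, rfl⟩ ⟨x₁, hx₁, y₁, hy₁, rfl⟩
          obtain ⟨x₂, hx₂, y₂, hy₂, e⟩ := (hKB hy).2 x₁ hx₁
          refine ⟨x * x₂, T.mul_mem hx hx₂, y₂ * y₁, K.mul_mem hy₂ hy₁, ?_⟩
          rw [mul_assoc, ← mul_assoc y, e]; group
        inv_mem' := by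
          rintro _ ⟨x, hx, y, hy, rfl⟩
          obtain ⟨x₂, hx₂, y₂, hy₂, e⟩ := (hKB (K.inv_mem hy)).2 x⁻¹ (T.inv_mem hx)
          exact ⟨x₂, hx₂, y₂, hy₂, by rw [mul_inv_rev, e]⟩ }
    have hTK' : T ≤ K' := fun x hx => ⟨x, hx, 1, K.one_mem, (mul_one x).symm⟩
    have hKK' : K ≤ K' := fun y hy => ⟨1, T.one_mem, y, hy, (one_mul y).symm⟩
    have hKt : ¬ t ∣ Nat.card K := fun hd => htS (hK t ht hd)
    have hdis : ∀ x ∈ T, x ∈ K → x = 1 := fun x hx hxK => by
      obtain ⟨i, hi⟩ := pow_card_eq (syl M.hyp t).2 hx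
      rw [← orderOf_eq_one_iff]
      exact Nat.eq_one_of_dvd_coprimes ((ht.coprime_iff_not_dvd.2 hKt).pow_left i)
        (orderOf_dvd_of_pow_eq_one hi) (orderOf_dvd_natCard K hxK)
    let f : T × K → K' := fun z => ⟨z.1 * z.2, z.1, z.1.2, z.2, z.2.2, rfl⟩
    have hcard : Nat.card K' = Nat.card T * Nat.card K := by
      rw [← Nat.card_prod]
      refine (Nat.card_eq_of_bijective f ⟨fun z w e => ?_, ?_⟩).symm
      · have e1 : (z.1 : G) * z.2 = w.1 * w.2 := congrArg Subtype.val e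
        have e2 : (w.1 : G)⁻¹ * z.1 = w.2 * (z.2 : G)⁻¹ := by
          calc (w.1 : G)⁻¹ * z.1 = (w.1 : G)⁻¹ * (z.1 * z.2) * (z.2 : G)⁻¹ := by group
            _ = _ := by rw [e1]; group
        have e3 := hdis _ (T.mul_mem (T.inv_mem w.1.2) z.1.2)
          (e2 ▸ K.mul_mem w.2.2 (K.inv_mem z.2.2))
        refine Prod.ext (Subtype.ext (inv_mul_eq_one.1 e3).symm) (Subtype.ext ?_)
        rw [e3] at e2
        exact (mul_inv_eq_one.1 e2.symm).symm
      · rintro ⟨g, x, hx, y, hy, rfl⟩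
        exact ⟨(⟨x, hx⟩, ⟨y, hy⟩), rfl⟩
    refine ⟨K', fun u hu hd => ?_, ?_, fun u _ hu => ?_, fun L hL => ?_⟩
    · rw [hcard] at hd
      rcases hu.dvd_mul.1 hd with h1 | h1
      · obtain ⟨i, hi⟩ := IsPGroup.iff_card.1 (syl M.hyp t).2
        rw [hT, hi] at h1
        rw [(Nat.prime_dvd_prime_iff_eq hu ht).1 (hu.dvd_of_dvd_pow h1)]
        exact Finset.mem_insert_self t S
      · exact Finset.mem_insert_of_mem (hK u hu h1)
    · rintro a _ ⟨x, hx, y, hy, rfl⟩
      exact ⟨φ a x, inv_syl M.hyp t a x hx, φ a y, hKi a y hy, map_mul _ _ _⟩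
    · rcases Finset.mem_insert.1 hu with e | e
      · subst e; exact hTK'
      · exact (hKle u e).trans hKK'
    · rintro _ ⟨x, hx, y, hy, rfl⟩
      exact L.mul_mem (hL t (Finset.mem_insert_self t S) hx)
        (hKmin L (fun u _ hu => hL u (Finset.mem_insert_of_mem hu)) hy)

theorem Min.false (M : Min q φ) : False := by
  classical
  have hcompl : ∀ p ∈ (Nat.card G).primeFactors, ∃ K : Subgroup G, Group.IsSolvable K ∧
      ∀ t : ℕ, t.Prime → t ∣ K.index → t = p := by
    intro p hp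
    haveI := Fact.mk (Nat.prime_of_mem_primeFactors hp)
    obtain ⟨K, hK, hKi, hKle, -⟩ := M.exists_product ((Nat.card G).primeFactors.erase p)
      fun t ht => ⟨Nat.prime_of_mem_primeFactors (Finset.mem_of_mem_erase ht),
        Nat.dvd_of_mem_primeFactors (Finset.mem_of_mem_erase ht)⟩
    refine ⟨K, M.solv K hKi fun e => ?_, fun t ht hd => by_contra fun hne => ?_⟩
    · exact Finset.notMem_erase p _ (hK p Fact.out (by
        rw [e, card_top]; exact Nat.dvd_of_mem_primeFactors hp))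
    · haveI := Fact.mk ht
      have hle := hKle t (Finset.mem_erase.2 ⟨hne, Nat.mem_primeFactors.2
        ⟨ht, hd.trans (index_dvd_card K), Nat.card_pos.ne'⟩⟩)
      exact (syl M.hyp t).not_dvd_index (hd.trans (index_dvd_of_le hle))
  by_cases h3 : 3 ≤ (Nat.card G).primeFactors.card
  · obtain ⟨p₁, hp₁, p₂, hp₂, p₃, hp₃, h12, h13, h23⟩ :=
      Finset.two_lt_card.1 h3
    obtain ⟨K₁, s₁, i₁⟩ := hcompl p₁ hp₁
    obtain ⟨K₂, s₂, i₂⟩ := hcompl p₂ hp₂
    obtain ⟨K₃, s₃, i₃⟩ := hcompl p₃ hp₃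
    have hc : ∀ {a b : ℕ} {K L : Subgroup G}, a ≠ b → (∀ t : ℕ, t.Prime → t ∣ K.index → t = a) →
        (∀ t : ℕ, t.Prime → t ∣ L.index → t = b) → K.index.Coprime L.index := fun hab hK hL =>
      Nat.coprime_of_dvd fun k hk h1 h2 => hab ((hK k hk h1).symm.trans (hL k hk h2))
    exact M.notSolv (CfsgLib.Solvable.isSolvable_of_three_coprime K₁ K₂ K₃ s₁ s₂ s₃
      (hc h12 i₁ i₂) (hc h13 i₁ i₃) (hc h23 i₂ i₃))
  · obtain ⟨p, r, hp, hr, hall⟩ : ∃ p r : ℕ, p.Prime ∧ r.Prime ∧
        ∀ t ∈ (Nat.card G).primeFactors, t = p ∨ t = r := by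
      have h2 : (Nat.card G).primeFactors.card ≤ 2 := by omega
      generalize hs : (Nat.card G).primeFactors = s at h2 ⊢
      have hprime : ∀ t ∈ s, t.Prime := fun t ht => Nat.prime_of_mem_primeFactors (hs.symm ▸ ht)
      interval_cases hn : s.card
      · exact ⟨2, 2, Nat.prime_two, Nat.prime_two, fun t ht => by
          rw [Finset.card_eq_zero.1 hn] at ht; exact absurd ht (Finset.notMem_empty t)⟩
      · obtain ⟨p, rfl⟩ := Finset.card_eq_one.1 hn
        exact ⟨p, p, hprime p (Finset.mem_singleton_self p), hprime p (Finset.mem_singleton_self p),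
          fun t ht => Or.inl (Finset.mem_singleton.1 ht)⟩
      · obtain ⟨p, r, -, rfl⟩ := Finset.card_eq_two.1 hn
        exact ⟨p, r, hprime p (by simp), hprime r (by simp), fun t ht => by simpa using ht⟩
    haveI := Fact.mk hp
    haveI := Fact.mk hr
    refine M.ne_top_of_pi (p := p) (r := r) (H := ⊤) (fun t ht hd => hall t ?_) rfl
    rw [card_top] at hd
    exact Nat.mem_primeFactors.2 ⟨ht, hd, Nat.card_pos.ne'⟩

/-- The theorem. -/
theorem isSolvable_aux : ∀ (n : ℕ) (G : Type u) [Group G] [Finite G] (φ : A →* MulAut G),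
    Nat.card G = n → Nat.card A = q ^ 2 → (∀ a : A, a ^ q = 1) → ¬ q ∣ Nat.card G →
    (∀ a : A, a ≠ 1 → ∀ x y : G, φ a x = x → φ a y = y → Commute x y) → Group.IsSolvable G := by
  intro n
  induction n using Nat.strong_induction_on with
  | _ n ih =>
  intro G _ _ φ hn hA hexp hcop hcomm
  by_contra hns
  have hsub : ∀ H : Subgroup G, Inv φ H → H ≠ ⊤ → Group.IsSolvable H := by
    intro H hi hH
    refine ih (Nat.card H) ?_ H (res φ H hi) rfl hA hexp
      (fun hd => hcop (hd.trans H.card_subgroup_dvd_card)) fun a ha x y hx hy =>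
        Subtype.ext (hcomm a ha x y (congrArg Subtype.val hx) (congrArg Subtype.val hy)).eq
    rw [← hn]
    exact lt_of_le_of_ne (card_le_card_group H) fun e => hH (eq_top_of_card_eq H e)
  have hsimp : ∀ N : Subgroup G, N.Normal → Inv φ N → N = ⊥ ∨ N = ⊤ := by
    intro N hN hi
    by_contra hcon
    push Not at hcon
    haveI := hsub N hi hcon.2
    have hNq : ¬ q ∣ Nat.card N := fun hd => hcop (hd.trans N.card_subgroup_dvd_card)
    haveI : Group.IsSolvable (G ⧸ N) := by
      refine ih (Nat.card (G ⧸ N)) ?_ (G ⧸ N) (quotAction φ N hi) rfl hA hexp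
        (fun hd => hcop (hd.trans N.card_quotient_dvd_card)) fun a ha x y hx hy => ?_
      · rw [← hn, N.card_eq_card_quotient_mul_card_subgroup]
        exact lt_mul_of_one_lt_right Nat.card_pos ((one_lt_card_iff_ne_bot N).2 hcon.1)
      · obtain ⟨x, rfl⟩ := QuotientGroup.mk'_surjective N x
        obtain ⟨y, rfl⟩ := QuotientGroup.mk'_surjective N y
        rw [quotAction_mk] at hx hy
        obtain ⟨z, hz, hza⟩ := exists_lift hexp hNq hi (QuotientGroup.eq.1 hx.symm)
        obtain ⟨w, hw, hwa⟩ := exists_lift hexp hNq hi (QuotientGroup.eq.1 hy.symm)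
        have hc := (hcomm a ha z w hza hwa).map (QuotientGroup.mk' N)
        rwa [show QuotientGroup.mk' N z = QuotientGroup.mk' N x from QuotientGroup.eq.2 hz,
          show QuotientGroup.mk' N w = QuotientGroup.mk' N y from QuotientGroup.eq.2 hw] at hc
    exact hns (Group.isSolvable_of_ker_le_range N.subtype (QuotientGroup.mk' N) (by simp))
  have hfix : ∀ x : G, (∀ a, φ a x = x) → x = 1 := by
    intro x hx
    have hexists : ∀ a : A, ∃ b, b ∉ zpowers a := by
      intro a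
      by_contra hcon
      push Not at hcon
      have h1 : Nat.card A ≤ q := by
        rw [← card_top (G := A), ← eq_top_iff.2 (fun y _ => hcon y : ⊤ ≤ zpowers a), Nat.card_zpowers]
        exact orderOf_le_of_pow_eq_one hq.out.pos (hexp a)
      rw [hA] at h1
      have := hq.out.two_le
      nlinarith
    obtain ⟨b, hb⟩ := hexists 1
    obtain ⟨c, hc⟩ := hexists b
    have hle : (⊤ : Subgroup G) ≤ centralizer ({x} : Set G) :=
      le_of_fixed_le_aux hexp hcop (ne_one_of_notMem hb) hc (fun _ _ _ => mem_top _)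
        fun a ha y hy => mem_centralizer_singleton_iff.2 (hcomm a ha y x hy.2 (hx a)).eq
    have hxc : x ∈ center G := mem_center_iff.2 fun g =>
      mem_centralizer_singleton_iff.1 (hle (mem_top g))
    rcases hsimp (center G) inferInstance (inv_of_characteristic inferInstance) with e | e
    · rwa [e, mem_bot] at hxc
    · letI : CommGroup G := { (inferInstance : Group G) with
        mul_comm := fun u v => mem_center_iff.1 (e.ge (mem_top v)) u }
      exact absurd (inferInstance : Group.IsSolvable G) hns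
  exact Min.false ⟨⟨hA, hexp, hcop, hcomm, hfix⟩, hsub, hsimp, hns⟩

end CfsgLib.Solvable.AbCent
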