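import Cfsg.Agent.Lib.Solvable.AbelianCentralizers.Support
import Cfsg.Agent.Lib.PGroup.CoprimeHall
import Cfsg.Agent.Lib.Local.AB
import Cfsg.Agent.Lib.Char.Burnside

/-!
In a minimal counterexample any two invariant Sylow subgroups lie in an invariant subgroup whose order
involves only their two primes.
-/

set_option autoImplicit false

namespace CfsgLib.Solvable.AbCent

open Subgroup CfsgLib.FGS.NilpotentMaximal Cfsg
open scoped Pointwise commutatorElement

universe u

variable {A : Type*} [CommGroup A] [Finite A] {q : ℕ} [hq : Fact q.Prime]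
  {G : Type u} [Group G] [Finite G] {φ : A →* MulAut G}

/-- The order involves only `p` and `r`. -/
def PiSub (p r : ℕ) (H : Subgroup G) : Prop :=
  ∀ t : ℕ, t.Prime → t ∣ Nat.card H → t = p ∨ t = r

omit [Finite G] in
theorem PiSub.symm {p r : ℕ} {H : Subgroup G} (h : PiSub p r H) : PiSub r p H :=
  fun t ht hd => (h t ht hd).symm

/-- Two invariant Sylow subgroups lie in an invariant `{p, r}`-subgroup. -/
def Perm (h : Hyp q φ) (p r : ℕ) [Fact p.Prime] [Fact r.Prime] : Prop :=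
  ∃ H : Subgroup G, Inv φ H ∧ PiSub p r H ∧ (syl h p : Subgroup G) ≤ H ∧ (syl h r : Subgroup G) ≤ H

/-- A maximal invariant `{p, r}`-subgroup. -/
structure MaxPi (φ : A →* MulAut G) (p r : ℕ) (L : Subgroup G) : Prop where
  inv : Inv φ L
  pi : PiSub p r L
  max : ∀ K : Subgroup G, Inv φ K → PiSub p r K → L ≤ K → K ≤ L

omit [Finite A] [Finite G] in
theorem MaxPi.symm {p r : ℕ} {L : Subgroup G} (hL : MaxPi φ p r L) : MaxPi φ r p L :=
  ⟨hL.inv, hL.pi.symm, fun K hK hpi hle => hL.max K hK hpi.symm hle⟩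

omit [Finite A] in
theorem exists_maxPi {p r : ℕ} {H : Subgroup G} (hi : Inv φ H) (hpi : PiSub p r H) :
    ∃ L, MaxPi φ p r L ∧ H ≤ L := by
  obtain ⟨L, ⟨hHL, hLi, hLp⟩, hmax⟩ := Set.Finite.exists_maximal
    (s := {L : Subgroup G | H ≤ L ∧ Inv φ L ∧ PiSub p r L}) (Set.toFinite _) ⟨H, le_rfl, hi, hpi⟩
  exact ⟨L, ⟨hLi, hLp, fun K hK hKp hle => hmax ⟨hHL.trans hle, hK, hKp⟩ hle⟩, hHL⟩

theorem piSub_of_isPGroup {p r : ℕ} [Fact p.Prime] {H : Subgroup G} (hH : IsPGroup p H) : PiSub p r H := by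
  intro t ht hd
  obtain ⟨k, hk⟩ := IsPGroup.iff_card.1 hH
  rw [hk] at hd
  exact Or.inl ((Nat.prime_dvd_prime_iff_eq ht Fact.out).1 (ht.dvd_of_dvd_pow hd))

variable {p r : ℕ} [Fact p.Prime] [Fact r.Prime]

theorem Min.ne_top_of_pi (M : Min q φ) {H : Subgroup G} (hpi : PiSub p r H) : H ≠ ⊤ := by
  intro e
  subst e
  have hdvd : Nat.card G ∣ p ^ Nat.card G * r ^ Nat.card G := by
    rw [Nat.dvd_iff_prime_pow_dvd_dvd]
    intro t k ht hk
    rcases Nat.eq_zero_or_pos k with rfl | hk0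
    · simp
    have hkc : k ≤ Nat.card G :=
      (Nat.lt_pow_self ht.one_lt).le.trans (Nat.le_of_dvd Nat.card_pos hk)
    rcases hpi t ht (by rw [card_top]; exact (dvd_pow_self t hk0.ne').trans hk) with e | e <;> subst e
    · exact Dvd.dvd.mul_right (pow_dvd_pow _ hkc) _
    · exact Dvd.dvd.mul_left (pow_dvd_pow _ hkc) _
  exact M.notSolv (CfsgLib.Char.isSolvable_of_card_eq_pow_mul_pow Fact.out Fact.out hdvd)

theorem le_of_pieces_pi (h : Hyp q φ) {H T : Subgroup G} (hi : Inv φ H) (hpi : PiSub p r H)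
    (hp : (syl h p : Subgroup G) ⊓ H ≤ T) (hr : (syl h r : Subgroup G) ⊓ H ≤ T) : H ≤ T := by
  refine le_of_fixed_le h hi fun a ha => fx_le_of_pieces h ha fun t _ x hx => ?_
  by_cases hx1 : x = 1
  · subst hx1; exact one_mem _
  obtain ⟨k, hk⟩ := pow_card_eq (syl h t).2 hx.2
  obtain ⟨j, -, hj⟩ := (Nat.dvd_prime_pow Fact.out).1 (orderOf_dvd_of_pow_eq_one hk)
  have hj0 : j ≠ 0 := fun e => hx1 (orderOf_eq_one_iff.1 (by rw [hj, e, pow_zero]))
  rcases hpi t Fact.out ((dvd_pow_self t hj0).trans (hj ▸ orderOf_dvd_natCard H hx.1.1)) with e | e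
  · subst e; exact hp ⟨hx.2, hx.1.1⟩
  · subst e; exact hr ⟨hx.2, hx.1.1⟩

theorem co_eq_bot_of_pi {H : Subgroup G} (hpi : PiSub p r H) {t : ℕ} (ht : t.Prime) (htp : t ≠ p)
    (htr : t ≠ r) : pCoreOf t H = ⊥ := by
  haveI := Fact.mk ht
  obtain ⟨k, hk⟩ := IsPGroup.iff_card.1 (isPGroup_co t H)
  rcases Nat.eq_zero_or_pos k with rfl | hk0
  · exact card_eq_one.1 (by rw [hk, pow_zero])
  · rcases hpi t ht ((dvd_pow_self t hk0.ne').trans (hk ▸ card_dvd_of_le co_le)) with e | e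
    · exact absurd e htp
    · exact absurd e htr

/-- An invariant `{p, r}`-Hall subgroup of a proper invariant subgroup. -/
theorem Min.exists_hull (M : Min q φ) {H : Subgroup G} (hi : Inv φ H) (hH : H ≠ ⊤) :
    ∃ K, Inv φ K ∧ PiSub p r K ∧ K ≤ H ∧ (syl M.hyp p : Subgroup G) ⊓ H ≤ K ∧
      (syl M.hyp r : Subgroup G) ⊓ H ≤ K := by
  classical
  have h := M.hyp
  have hs := M.solv H hi hH
  set π : Set ℕ := {p, r} with hπ
  let S := {K : Subgroup G // IsPiHallOf π K H}
  have hmapH : ∀ a, H.map (φ a).toMonoidHom = H := fun a => inv_map hi a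
  have hmap : ∀ a (K : Subgroup G), IsPiHallOf π K H → IsPiHallOf π (K.map (φ a).toMonoidHom) H := by
    intro a K hK
    refine ⟨(map_mono hK.1).trans (hmapH a).le, ?_, ?_⟩
    · rw [card_map_of_injective (φ a).injective]; exact hK.2.1
    · have e : (K.map (φ a).toMonoidHom).relIndex H = K.relIndex H := by
        conv_lhs => rw [← hmapH a]
        exact relIndex_map_map_of_injective _ _ (φ a).injective
      rw [e]; exact hK.2.2
  letI : MulAction A S :=
    { smul := fun a K => ⟨K.1.map (φ a).toMonoidHom, hmap a K.1 K.2⟩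
      one_smul := fun K => Subtype.ext (by
        show K.1.map (φ 1).toMonoidHom = K.1
        rw [map_one]; exact Subgroup.map_id _)
      mul_smul := fun a b K => Subtype.ext (by
        show K.1.map (φ (a * b)).toMonoidHom = (K.1.map (φ b).toMonoidHom).map (φ a).toMonoidHom
        rw [map_map, map_mul]; rfl) }
  obtain ⟨K₀, hK₀⟩ := CfsgLib.PGroup.exists_isPiHallOf π H hs
  letI : MulAction H (Subgroup G) :=
    MulAction.compHom _ ((MulAut.conj : G →* MulAut G).comp H.subtype)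
  have hset : {K : Subgroup G | IsPiHallOf π K H} = MulAction.orbit H K₀ := by
    ext K
    constructor
    · intro hK
      obtain ⟨g, hg, e⟩ := CfsgLib.PGroup.exists_conj_of_isPiHallOf hs hK₀ hK
      exact ⟨⟨g, hg⟩, e⟩
    · rintro ⟨g, rfl⟩
      exact CfsgLib.PGroup.isPiHallOf_conj hK₀ (le_normalizer g.2)
  have hcard : Nat.card S = Nat.card (MulAction.orbit H K₀) :=
    Nat.card_congr (Equiv.setCongr hset)
  have hnd : ¬ q ∣ Nat.card S := by
    intro hd
    rw [hcard, Nat.card_coe_set_eq, ← MulAction.index_stabilizer] at hd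
    exact not_dvd_subgroup h H (hd.trans (index_dvd_card _))
  obtain ⟨⟨K, hK⟩, hfix⟩ := (IsPGroup.of_card h.cardA).nonempty_fixed_point_of_prime_not_dvd_card S hnd
  have hKi : Inv φ K := fun a x hx => by
    have e : K.map (φ a).toMonoidHom = K := congrArg Subtype.val (hfix a)
    rw [← e]; exact ⟨x, hx, rfl⟩
  have key : ∀ (t : ℕ) [Fact t.Prime], t ∈ π → (syl h t : Subgroup G) ⊓ H ≤ K := by
    intro t _ ht
    set Qs := syl (h.res_hyp hKi) t
    set Q := (Qs : Subgroup K).map K.subtype with hQ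
    have hQi : Inv φ Q := by
      rintro a _ ⟨x, hx, rfl⟩
      exact ⟨res φ K hKi a x, inv_syl (h.res_hyp hKi) t a x hx, rfl⟩
    have hQP : Q ≤ (syl h t : Subgroup G) ⊓ H :=
      le_inf (le_syl h (Qs.2.map _) hQi) ((map_subtype_le _).trans hK.1)
    have hW : IsPGroup t (((syl h t : Subgroup G) ⊓ H).subgroupOf H) :=
      ((syl h t).2.to_le inf_le_left).comap_of_injective H.subtype H.subtype_injective
    obtain ⟨R, hR⟩ := hW.exists_le_sylow
    have hcardH : Nat.card H = K.relIndex H * Nat.card K := by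
      rw [← Nat.card_congr (subgroupOfEquivOfLe hK.1).toEquiv, mul_comm]
      exact ((K.subgroupOf H).card_mul_index).symm
    have h1 : Nat.card ((syl h t : Subgroup G) ⊓ H : Subgroup G) ≤ Nat.card Q := by
      calc Nat.card ((syl h t : Subgroup G) ⊓ H : Subgroup G)
          = Nat.card (((syl h t : Subgroup G) ⊓ H).subgroupOf H) :=
            (Nat.card_congr (subgroupOfEquivOfLe inf_le_right).toEquiv).symm
        _ ≤ Nat.card (R : Subgroup H) :=
            Nat.card_le_card_of_injective (Subgroup.inclusion hR) (Subgroup.inclusion_injective hR)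
        _ = Nat.card Q := by
          rw [hQ, card_map_of_injective K.subtype_injective, R.card_eq_multiplicity,
            Qs.card_eq_multiplicity, hcardH,
            Nat.factorization_mul (show K.relIndex H ≠ 0 from index_ne_zero_of_finite) Nat.card_pos.ne', Finsupp.add_apply,
            Nat.factorization_eq_zero_of_not_dvd (hK.2.2 t Fact.out ht), zero_add]
    rw [← eq_of_le_of_card_ge hQP h1]
    exact map_subtype_le _
  exact ⟨K, hKi, fun t ht hd => hK.2.1 t ht hd, hK.1, key p (Or.inl rfl), key r (Or.inr rfl)⟩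

theorem Min.exists_max_hull (M : Min q φ) {H : Subgroup G} (hi : Inv φ H) (hH : H ≠ ⊤) :
    ∃ L, MaxPi φ p r L ∧ (syl M.hyp p : Subgroup G) ⊓ H ≤ L ∧ (syl M.hyp r : Subgroup G) ⊓ H ≤ L := by
  obtain ⟨K, hKi, hKp, -, h1, h2⟩ := M.exists_hull (p := p) (r := r) hi hH
  obtain ⟨L, hL, hKL⟩ := exists_maxPi hKi hKp
  exact ⟨L, hL, h1.trans hKL, h2.trans hKL⟩

/-- A maximal subgroup absorbs the `p`-elements of the proper invariant overgroups. -/
theorem Min.absorb (M : Min q φ) {L H : Subgroup G} (hL : MaxPi φ p r L) (hi : Inv φ H) (hH : H ≠ ⊤)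
    (hLH : L ≤ H) : (syl M.hyp p : Subgroup G) ⊓ H ≤ L ∧ (syl M.hyp r : Subgroup G) ⊓ H ≤ L := by
  obtain ⟨K, hKi, hKp, -, h1, h2⟩ := M.exists_hull (p := p) (r := r) hi hH
  have hLK : L ≤ K := le_of_pieces_pi M.hyp hL.inv hL.pi
    ((inf_le_inf_left _ hLH).trans h1) ((inf_le_inf_left _ hLH).trans h2)
  exact ⟨h1.trans (hL.max K hKi hKp hLK), h2.trans (hL.max K hKi hKp hLK)⟩

theorem commute_of_normalize (hpr : p ≠ r) {X Y : Subgroup G} (hX : IsPGroup p X) (hY : IsPGroup r Y)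
    {x y : G} (hx : x ∈ X) (hy : y ∈ Y) (hxY : x ∈ normalizer (Y : Set G))
    (hyX : y ∈ normalizer (X : Set G)) : x * y = y * x := by
  rw [← commutatorElement_eq_one_iff_mul_comm]
  have h1 : ⁅x, y⁆ ∈ X := by
    rw [show ⁅x, y⁆ = x * (y * x⁻¹ * y⁻¹) by rw [commutatorElement_def]; group]
    exact mul_mem hx ((mem_normalizer_iff.1 hyX _).1 (inv_mem hx))
  have h2 : ⁅x, y⁆ ∈ Y := by
    rw [commutatorElement_def]
    exact mul_mem ((mem_normalizer_iff.1 hxY y).1 hy) (inv_mem hy)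
  exact mem_bot.1 ((disjoint_iff.1 (IsPGroup.disjoint_of_ne p r hpr X Y hX hY)).le ⟨h1, h2⟩)

/-- Half of the uniqueness argument. -/
theorem Min.core_centralized (M : Min q φ) (hpr : p ≠ r) {L H X Y : Subgroup G} (hL : MaxPi φ p r L)
    (hXL : X ≤ L) (hXn : L ≤ normalizer (X : Set G)) (hXp : IsPGroup p X) (hXi : Inv φ X) (hX : X ≠ ⊥)
    (hYL : Y ≤ L) (hYn : L ≤ normalizer (Y : Set G)) (hYr : IsPGroup r Y) (hYi : Inv φ Y) (hY : Y ≠ ⊥)
    (hHi : Inv φ H) (hXH : X ≤ H) (hYH : Y ≤ H) :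
    pCoreOf p H ≤ L ∧ Y ≤ centralizer (pCoreOf p H : Set G) := by
  have h := M.hyp
  set Q := pCoreOf p H
  have hQp : IsPGroup p Q := isPGroup_co p H
  have hQP : Q ≤ (syl h p : Subgroup G) := le_syl h hQp (inv_co hHi)
  have hNX := M.normalizer_ne_top hXi hX (M.ne_top_of_isPGroup hXp)
  have hcent : Y ≤ centralizer (Q : Set G) := by
    intro y hy
    have hyp' : (orderOf y).Coprime p := by
      obtain ⟨k, hk⟩ := pow_card_eq hYr hy
      exact Nat.Coprime.coprime_dvd_left (orderOf_dvd_of_pow_eq_one hk)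
        (((Nat.coprime_primes Fact.out Fact.out).2 hpr.symm).pow_left k)
    refine mem_centralizer_iff.2 fun z hz => (CfsgLib.Local.commute_of_commute_fixedPoints hXp
      (fun u hu => (commute_of_normalize hpr hXp hYr hu hy (hYn (hXL hu)) (hXn (hYL hy))).symm)
      hyp' Q hQp (hXH.trans (le_normalizer_co p H)) (le_normalizer_co p H (hYH hy))
      (fun w hw hwX => ?_) z hz).symm
    have hwN : w ∈ normalizer (X : Set G) :=
      centralizer_le_normalizer _ (mem_centralizer_iff.2 hwX)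
    have hwL : w ∈ L := (M.absorb hL (inv_normalizer hXi) hNX hXn).1 ⟨hQP hw, hwN⟩
    exact (commute_of_normalize hpr hQp hYr hw hy (hYn hwL) (le_normalizer_co p H (hYH hy))).symm
  refine ⟨fun z hz => ?_, hcent⟩
  have hzN : z ∈ normalizer (Y : Set G) := centralizer_le_normalizer _
    (mem_centralizer_iff.2 fun y hy => (mem_centralizer_iff.1 (hcent hy) z hz).symm)
  exact (M.absorb hL (inv_normalizer hYi) (M.normalizer_ne_top hYi hY (M.ne_top_of_isPGroup hYr)) hYn).1
    ⟨hQP hz, hzN⟩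

/-- The uniqueness argument. -/
theorem Min.core_absorb (M : Min q φ) (hpr : p ≠ r) {L H X Y : Subgroup G} (hL : MaxPi φ p r L)
    (hXL : X ≤ L) (hXn : L ≤ normalizer (X : Set G)) (hXp : IsPGroup p X) (hXi : Inv φ X) (hX : X ≠ ⊥)
    (hYL : Y ≤ L) (hYn : L ≤ normalizer (Y : Set G)) (hYr : IsPGroup r Y) (hYi : Inv φ Y) (hY : Y ≠ ⊥)
    (hHi : Inv φ H) (hHp : PiSub p r H) (hXH : X ≤ H) (hYH : Y ≤ H) :
    pCoreOf p H ≤ L ∧ pCoreOf r H ≤ L ∧ X ≤ pCoreOf p H ∧ Y ≤ pCoreOf r H := by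
  have h := M.hyp
  obtain ⟨h1, h2⟩ := M.core_centralized hpr hL hXL hXn hXp hXi hX hYL hYn hYr hYi hY hHi hXH hYH
  obtain ⟨h3, h4⟩ :=
    M.core_centralized hpr.symm hL.symm hYL hYn hYr hYi hY hXL hXn hXp hXi hX hHi hYH hXH
  have hs := M.solv H hHi (M.ne_top_of_pi hHp)
  refine ⟨h1, h3, fun x hx => ?_, fun y hy => ?_⟩
  · obtain ⟨k, hk⟩ := pow_card_eq hXp hx
    refine mem_co_of_centralizes h hHi hs (hXH hx) hk fun t ht htp => ?_
    rcases eq_or_ne t r with rfl | htr
    · exact h4 hx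
    · rw [co_eq_bot_of_pi hHp ht htp htr]
      exact mem_centralizer_iff.2 fun z hz => by simp [mem_bot.1 hz]
  · obtain ⟨k, hk⟩ := pow_card_eq hYr hy
    refine mem_co_of_centralizes h hHi hs (hYH hy) hk fun t ht htr => ?_
    rcases eq_or_ne t p with rfl | htp
    · exact h2 hy
    · rw [co_eq_bot_of_pi hHp ht htp htr]
      exact mem_centralizer_iff.2 fun z hz => by simp [mem_bot.1 hz]

/-- A maximal subgroup with two cores is the only one containing nontrivial normal pieces of each. -/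
theorem Min.eq_of_pieces (M : Min q φ) (hpr : p ≠ r) {L H X Y : Subgroup G} (hL : MaxPi φ p r L)
    (hXL : X ≤ L) (hXn : L ≤ normalizer (X : Set G)) (hXp : IsPGroup p X) (hXi : Inv φ X) (hX : X ≠ ⊥)
    (hYL : Y ≤ L) (hYn : L ≤ normalizer (Y : Set G)) (hYr : IsPGroup r Y) (hYi : Inv φ Y) (hY : Y ≠ ⊥)
    (hH : MaxPi φ p r H) (hXH : X ≤ H) (hYH : Y ≤ H) : H = L := by
  obtain ⟨a1, a2, a3, a4⟩ :=
    M.core_absorb hpr hL hXL hXn hXp hXi hX hYL hYn hYr hYi hY hH.inv hH.pi hXH hYH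
  have hpH : pCoreOf p H ≠ ⊥ := fun e => hX (le_bot_iff.1 (a3.trans e.le))
  have hrH : pCoreOf r H ≠ ⊥ := fun e => hY (le_bot_iff.1 (a4.trans e.le))
  have hpL : pCoreOf p L ≠ ⊥ := fun e => hX (le_bot_iff.1 ((le_co hXL hXp hXn).trans e.le))
  have hrL : pCoreOf r L ≠ ⊥ := fun e => hY (le_bot_iff.1 ((le_co hYL hYr hYn).trans e.le))
  obtain ⟨b1, b2, b3, b4⟩ := M.core_absorb hpr hH co_le (le_normalizer_co p H) (isPGroup_co p H)
    (inv_co hH.inv) hpH co_le (le_normalizer_co r H) (isPGroup_co r H) (inv_co hH.inv) hrH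
    hL.inv hL.pi a1 a2
  obtain ⟨-, -, c3, -⟩ := M.core_absorb hpr hL co_le (le_normalizer_co p L) (isPGroup_co p L)
    (inv_co hL.inv) hpL co_le (le_normalizer_co r L) (isPGroup_co r L) (inv_co hL.inv) hrL
    hH.inv hH.pi b1 b2
  have heq : pCoreOf p L = pCoreOf p H := le_antisymm c3 b3
  have hHN : H ≤ normalizer (pCoreOf p L : Set G) := heq ▸ le_normalizer_co p H
  obtain ⟨d1, d2⟩ := M.absorb hL (inv_normalizer (inv_co hL.inv))
    (M.normalizer_ne_top (inv_co hL.inv) hpL (M.ne_top_of_isPGroup (isPGroup_co p L)))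
    (le_normalizer_co p L)
  have hHL : H ≤ L := le_of_pieces_pi M.hyp hH.inv hH.pi
    ((inf_le_inf_left _ hHN).trans d1) ((inf_le_inf_left _ hHN).trans d2)
  exact le_antisymm hHL (hH.max L hL.inv hL.pi hHL)

/-- A maximal subgroup with two cores contains the lines meeting its `p`-core. -/
theorem Min.line_le (M : Min q φ) (hpr : p ≠ r) {L : Subgroup G} (hL : MaxPi φ p r L)
    (hr : pCoreOf r L ≠ ⊥) {a : A} (ha : a ≠ 1) (ht : pCoreOf p L ⊓ fx φ a ≠ ⊥) :
    (syl M.hyp p : Subgroup G) ⊓ fx φ a ≤ L ∧ (syl M.hyp r : Subgroup G) ⊓ fx φ a ≤ L := by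
  have h := M.hyp
  set E := pCoreOf p L
  have hE : E ≠ ⊥ := fun e => ht (by rw [e, bot_inf_eq])
  have hEp : IsPGroup p E := isPGroup_co p L
  set T := E ⊓ fx φ a
  have hTi : Inv φ T := inv_inf (inv_co hL.inv) (inv_fx a)
  set H0 := centralizer (T : Set G)
  have hH0 : H0 ≠ ⊤ := M.centralizer_ne_top hTi ht (M.ne_top_of_isPGroup (hEp.to_le inf_le_left))
  set X := E ⊓ centralizer (E : Set G)
  have hXi : Inv φ X := inv_inf (inv_co hL.inv) (inv_centralizer (inv_co hL.inv))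
  have hXne : X ≠ ⊥ := fun e => by
    obtain ⟨x, hx, hx1, -⟩ := CfsgLib.PStab.exists_pow_one_center hEp le_rfl hE le_normalizer
    exact hx1 (mem_bot.1 (e.le hx.2))
  have hXn : L ≤ normalizer (X : Set G) := by
    intro g hg
    refine CfsgLib.Solvable.mem_normalizer_of_conj_mem fun x hx => ?_
    have hgn := mem_normalizer_iff.1 (le_normalizer_co p L hg)
    refine ⟨(hgn x).1 hx.1, mem_centralizer_iff.2 fun e he => ?_⟩
    have h1 : g⁻¹ * e * g ∈ E := by
      have := (mem_normalizer_iff.1 (inv_mem (le_normalizer_co p L hg)) e).1 he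
      rwa [inv_inv] at this
    have h2 := mem_centralizer_iff.1 hx.2 _ h1
    calc e * (g * x * g⁻¹) = g * (g⁻¹ * e * g * x) * g⁻¹ := by group
      _ = g * (x * (g⁻¹ * e * g)) * g⁻¹ := by rw [h2]
      _ = g * x * g⁻¹ * e := by group
  have hXH0 : X ≤ H0 := fun x hx => mem_centralizer_iff.2 fun y hy =>
    mem_centralizer_iff.1 hx.2 y hy.1
  have hYH0 : pCoreOf r L ≤ H0 := fun y hy => mem_centralizer_iff.2 fun z hz =>
    commute_of_normalize hpr hEp (isPGroup_co r L) hz.1 hy (le_normalizer_co r L (co_le hz.1))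
      (le_normalizer_co p L (co_le hy))
  obtain ⟨H, hH, hpH, hrH⟩ := M.exists_max_hull (p := p) (r := r) (inv_centralizer hTi) hH0
  have hXH : X ≤ H := fun x hx => hpH ⟨le_syl h (hEp.to_le inf_le_left) hXi hx, hXH0 hx⟩
  have hYH : pCoreOf r L ≤ H := fun y hy =>
    hrH ⟨le_syl h (isPGroup_co r L) (inv_co hL.inv) hy, hYH0 hy⟩
  have e := M.eq_of_pieces hpr hL (inf_le_left.trans co_le) hXn (hEp.to_le inf_le_left) hXi hXne
    co_le (le_normalizer_co r L) (isPGroup_co r L) (inv_co hL.inv) hr hH hXH hYH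
  subst e
  exact ⟨fun x hx => hpH ⟨hx.1, mem_centralizer_iff.2 fun y hy => (h.comm a ha y x hy.2 hx.2).eq⟩,
    fun x hx => hrH ⟨hx.1, mem_centralizer_iff.2 fun y hy => (h.comm a ha y x hy.2 hx.2).eq⟩⟩

omit [Fact r.Prime] in
theorem le_of_growth {P D L : Subgroup G} (hP : IsPGroup p P) (hD : D = P ⊓ L)
    (hN : P ⊓ normalizer (D : Set G) ≤ L) : P ≤ L := by
  by_contra hle
  haveI : Group.IsNilpotent P := hP.isNilpotent
  have hlt : D.subgroupOf P < ⊤ := by
    rw [lt_top_iff_ne_top, Ne, subgroupOf_eq_top]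
    exact fun h => hle (h.trans (hD.le.trans inf_le_right))
  obtain ⟨g, hgN, hgD⟩ := SetLike.exists_of_lt (Group.normalizerCondition_of_isNilpotent _ hlt)
  refine hgD (mem_subgroupOf.2 (hD.ge ⟨g.2, hN ⟨g.2, ?_⟩⟩))
  refine CfsgLib.Solvable.mem_normalizer_of_conj_mem fun y hy => ?_
  exact (mem_normalizer_iff.1 hgN ⟨y, (hD.le hy).1⟩).1 hy

/-- A maximal subgroup with two cores contains the whole invariant Sylow `p`-subgroup. -/
theorem Min.sylow_le_of_two_cores (M : Min q φ) (hpr : p ≠ r) {L : Subgroup G} (hL : MaxPi φ p r L)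
    (hp : pCoreOf p L ≠ ⊥) (hr : pCoreOf r L ≠ ⊥) : (syl M.hyp p : Subgroup G) ≤ L := by
  classical
  have h := M.hyp
  set P := (syl h p : Subgroup G)
  have hPi : Inv φ P := inv_syl h p
  set E := pCoreOf p L
  have hEi : Inv φ E := inv_co hL.inv
  have hEP : E ≤ P := le_syl h (isPGroup_co p L) hEi
  by_cases hall : ∀ a : A, a ≠ 1 → P ⊓ fx φ a ≤ L
  · exact le_of_fixed_le h hPi hall
  push Not at hall
  obtain ⟨k, hk1, hk⟩ := hall
  have hbadp : ∀ c : A, c ≠ 1 → ¬ P ⊓ fx φ c ≤ L → E ⊓ fx φ c = ⊥ ∧ pCoreOf r L ⊓ fx φ c = ⊥ :=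
    fun c hc hcL => ⟨by_contra fun he => hcL (M.line_le hpr hL hr hc he).1,
      by_contra fun he => hcL (M.line_le hpr.symm hL.symm hp hc he).2⟩
  obtain ⟨hkE, hkR⟩ := hbadp k hk1 hk
  have piece : ∀ a c : A, a ≠ 1 → c ∉ zpowers a → pCoreOf r L ⊓ fx φ c = ⊥ →
      P ⊓ L ⊓ fx φ a ≤ E := by
    intro a c ha hc he x hx
    obtain ⟨i, hi⟩ := pow_card_eq (syl h p).2 hx.1.1
    refine mem_co_of_centralizes h hL.inv (M.solv L hL.inv (M.ne_top_of_pi hL.pi)) hx.1.2 hi
      fun t ht htp => ?_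
    rcases eq_or_ne t r with rfl | htr
    · exact centralizes_of_empty h (isPGroup_co t L) (inv_co hL.inv) ha hc he
        (le_normalizer_co t L hx.1.2) hx.2 (Nat.Coprime.coprime_dvd_left (orderOf_dvd_of_pow_eq_one hi)
          (((Nat.coprime_primes Fact.out Fact.out).2 hpr).pow_left i))
    · rw [co_eq_bot_of_pi hL.pi ht htp htr]
      exact mem_centralizer_iff.2 fun z hz => by simp [mem_bot.1 hz]
  have hNE : P ⊓ normalizer (E : Set G) ≤ L :=
    (M.absorb hL (inv_normalizer hEi)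
      (M.normalizer_ne_top hEi hp (M.ne_top_of_isPGroup (isPGroup_co p L))) (le_normalizer_co p L)).1
  refine le_of_growth (syl h p).2 rfl ?_
  by_cases htwo : ∃ l : A, l ∉ zpowers k ∧ ¬ P ⊓ fx φ l ≤ L
  · obtain ⟨l, hlk, hl⟩ := htwo
    obtain ⟨-, hlR⟩ := hbadp l (ne_one_of_notMem hlk) hl
    have hPL : P ⊓ L ≤ E := by
      refine le_of_fixed_le h (inv_inf hPi hL.inv) fun a ha => ?_
      by_cases hka : k ∈ zpowers a
      · refine piece a l ha (fun hla => hlk ?_) hlR
        exact zpowers_le.2 (mem_zpowers_of_mem h.exp hka hk1) hla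
      · exact piece a k ha hka hkR
    rw [le_antisymm hPL (le_inf hEP co_le)]
    exact hNE
  push Not at htwo
  -- all other lines lie in `L`
  let D : Subgroup G :=
    { carrier := {w | w ∈ L ∧ w⁻¹ * φ k w ∈ E}
      one_mem' := ⟨one_mem _, by simp⟩
      mul_mem' := fun {v w} hv hw => ⟨mul_mem hv.1 hw.1, by
        have h1 := (mem_normalizer_iff.1 (inv_mem (le_normalizer_co p L hw.1)) _).1 hv.2
        rw [inv_inv] at h1
        have h2 := mul_mem h1 hw.2
        rw [map_mul, mul_inv_rev]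
        simpa [mul_assoc] using h2⟩
      inv_mem' := fun {w} hw => ⟨inv_mem hw.1, by
        have h1 := (mem_normalizer_iff.1 (le_normalizer_co p L hw.1) _).1 (inv_mem hw.2)
        rw [map_inv, inv_inv]
        simpa [mul_assoc] using h1⟩ }
  have hPLD : P ⊓ L ≤ D := by
    refine le_of_fixed_le h (inv_inf hPi hL.inv) fun a ha x hx => ⟨hx.1.2, ?_⟩
    by_cases hka : k ∈ zpowers a
    · obtain ⟨i, hi⟩ := (isOfFinOrder_of_finite a).mem_powers_iff_mem_zpowers.2 hka
      have hxk : φ k x = x := by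
        simp only at hi
        rw [← hi, map_pow, pow_apply_fixed hx.2]
      rw [hxk, inv_mul_cancel]; exact one_mem _
    · have hxE := piece a k ha hka hkR hx
      exact mul_mem (inv_mem hxE) (hEi k x hxE)
  have hsurj : ∀ e ∈ E, ∃ z ∈ E, z⁻¹ * φ k z = e := by
    intro e he
    let f : E → E := fun z => ⟨(z : G)⁻¹ * φ k z, mul_mem (inv_mem z.2) (hEi k z z.2)⟩
    have hf : Function.Injective f := by
      intro z w hzw
      have e1 : (z : G)⁻¹ * φ k z = (w : G)⁻¹ * φ k w := congrArg Subtype.val hzw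
      have e2 : (w : G) * (z : G)⁻¹ ∈ E ⊓ fx φ k := by
        refine ⟨E.mul_mem w.2 (E.inv_mem z.2), ?_⟩
        show φ k ((w : G) * (z : G)⁻¹) = (w : G) * (z : G)⁻¹
        rw [map_mul, map_inv]
        calc φ k (w : G) * (φ k (z : G))⁻¹
            = (w : G) * ((w : G)⁻¹ * φ k w) * (φ k (z : G))⁻¹ := by group
          _ = (w : G) * ((z : G)⁻¹ * φ k z) * (φ k (z : G))⁻¹ := by rw [e1]
          _ = (w : G) * (z : G)⁻¹ := by group
      rw [hkE, mem_bot, mul_inv_eq_one] at e2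
      exact Subtype.ext e2.symm
    obtain ⟨z, hz⟩ := (Finite.injective_iff_surjective.1 hf) ⟨e, he⟩
    exact ⟨z, z.2, congrArg Subtype.val hz⟩
  refine le_of_fixed_le h (inv_inf hPi (inv_normalizer (inv_inf hPi hL.inv))) fun a ha x hx => ?_
  by_cases hak : a ∈ zpowers k
  · obtain ⟨i, hi⟩ := (isOfFinOrder_of_finite a).mem_powers_iff_mem_zpowers.2
      (mem_zpowers_of_mem h.exp hak ha)
    have hxk : φ k x = x := by
      simp only at hi
      rw [← hi, map_pow, pow_apply_fixed hx.2]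
    refine hNE ⟨hx.1.1, CfsgLib.Solvable.mem_normalizer_of_conj_mem fun e he => ?_⟩
    obtain ⟨z, hz, rfl⟩ := hsurj e he
    have hw : x * z * x⁻¹ ∈ P ⊓ L := (mem_normalizer_iff.1 hx.1.2 z).1 ⟨hEP hz, co_le hz⟩
    have h2 := (hPLD hw).2
    rw [map_mul, map_mul, map_inv, hxk] at h2
    simpa [mul_assoc] using h2
  · exact htwo a hak ⟨hx.1.1, hx.2⟩

/-- Without a common overgroup every maximal subgroup normalizes one of the Sylow subgroups. -/
theorem Min.side (M : Min q φ) (hpr : p ≠ r) (hnp : ¬ Perm M.hyp p r) {L : Subgroup G}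
    (hL : MaxPi φ p r L) (hp : p ∣ Nat.card G) :
    ((syl M.hyp p : Subgroup G) ≤ L ∧ L ≤ normalizer ((syl M.hyp p : Subgroup G) : Set G) ∧
        pCoreOf r L = ⊥ ∧ pCoreOf p L = (syl M.hyp p : Subgroup G)) ∨
      ((syl M.hyp r : Subgroup G) ≤ L ∧ L ≤ normalizer ((syl M.hyp r : Subgroup G) : Set G) ∧
        pCoreOf p L = ⊥ ∧ pCoreOf r L = (syl M.hyp r : Subgroup G)) := by
  have h := M.hyp
  have key : ∀ {s t : ℕ} [Fact s.Prime] [Fact t.Prime], MaxPi φ s t L → pCoreOf t L = ⊥ →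
      pCoreOf s L ≠ ⊥ → (syl h s : Subgroup G) ≤ L ∧
        L ≤ normalizer ((syl h s : Subgroup G) : Set G) ∧ pCoreOf t L = ⊥ ∧
          pCoreOf s L = (syl h s : Subgroup G) := by
    intro s t _ _ hL ht hs
    have hSL : (syl h s : Subgroup G) ⊓ L = pCoreOf s L := by
      refine le_antisymm (fun x hx => ?_) (le_inf (le_syl h (isPGroup_co s L) (inv_co hL.inv)) co_le)
      obtain ⟨i, hi⟩ := pow_card_eq (syl h s).2 hx.1
      refine mem_co_of_centralizes h hL.inv (M.solv L hL.inv (M.ne_top_of_pi hL.pi)) hx.2 hi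
        fun u hu hus => ?_
      rw [show pCoreOf u L = ⊥ by
        rcases eq_or_ne u t with rfl | hut
        · exact ht
        · exact co_eq_bot_of_pi hL.pi hu hus hut]
      exact mem_centralizer_iff.2 fun z hz => by simp [mem_bot.1 hz]
    have hle : (syl h s : Subgroup G) ≤ L := le_of_growth (syl h s).2 hSL.symm
      (M.absorb hL (inv_normalizer (inv_co hL.inv))
        (M.normalizer_ne_top (inv_co hL.inv) hs (M.ne_top_of_isPGroup (isPGroup_co s L)))
        (le_normalizer_co s L)).1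
    rw [inf_eq_left.2 hle] at hSL
    exact ⟨hle, hSL ▸ le_normalizer_co s L, ht, hSL.symm⟩
  by_cases hcp : pCoreOf p L = ⊥
  · by_cases hcr : pCoreOf r L = ⊥
    · exfalso
      have hbot : L ≤ ⊥ := by
        have aux : ∀ {s : ℕ} [Fact s.Prime], pCoreOf s L = ⊥ → (syl h s : Subgroup G) ⊓ L ≤ ⊥ := by
          intro s _ hs x hx
          obtain ⟨i, hi⟩ := pow_card_eq (syl h s).2 hx.1
          refine hs ▸ mem_co_of_centralizes h hL.inv (M.solv L hL.inv (M.ne_top_of_pi hL.pi)) hx.2 hi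
            fun u hu _ => ?_
          rw [show pCoreOf u L = ⊥ by
            rcases eq_or_ne u p with rfl | hup
            · exact hcp
            rcases eq_or_ne u r with rfl | hur
            · exact hcr
            · exact co_eq_bot_of_pi hL.pi hu hup hur]
          exact mem_centralizer_iff.2 fun z hz => by simp [mem_bot.1 hz]
        exact le_of_pieces_pi h hL.inv hL.pi (aux hcp) (aux hcr)
      have hP := hL.max (syl h p : Subgroup G) (inv_syl h p) (piSub_of_isPGroup (syl h p).2)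
        (hbot.trans bot_le)
      have h1 := (syl h p).dvd_card_of_dvd_card hp
      rw [show (syl h p : Subgroup G) = ⊥ from le_bot_iff.1 (hP.trans hbot), card_bot, Nat.dvd_one] at h1
      exact (Fact.out (p := p.Prime)).ne_one h1
    · exact Or.inr (key hL.symm hcp hcr)
  · by_cases hcr : pCoreOf r L = ⊥
    · exact Or.inl (key hL hcr hcp)
    · exact absurd ⟨L, hL.inv, hL.pi, M.sylow_le_of_two_cores hpr hL hcp hcr,
        M.sylow_le_of_two_cores hpr.symm hL.symm hcr hcp⟩ hnp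

/-- The two normalizers do not meet the opposite Sylow subgroup on a line. -/
theorem Min.cross_bot (M : Min q φ) (hpr : p ≠ r) (hnp : ¬ Perm M.hyp p r) (hp : p ∣ Nat.card G)
    (hr : r ∣ Nat.card G) {a : A} (ha : a ≠ 1) :
    (syl M.hyp r : Subgroup G) ⊓ fx φ a ⊓ normalizer ((syl M.hyp p : Subgroup G) : Set G) = ⊥ := by
  have h := M.hyp
  set P := (syl h p : Subgroup G)
  set R := (syl h r : Subgroup G)
  have hPi : Inv φ P := inv_syl h p
  have hPne : P ≠ ⊥ := fun e => by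
    have := (syl h p).dvd_card_of_dvd_card hp
    rw [show ((syl h p : Subgroup G)) = ⊥ from e, card_bot, Nat.dvd_one] at this
    exact (Fact.out (p := p.Prime)).ne_one this
  have hNP : normalizer (P : Set G) ≠ ⊤ :=
    M.normalizer_ne_top hPi hPne (M.ne_top_of_isPGroup (syl h p).2)
  have hcent : R ⊓ centralizer (P : Set G) = ⊥ := by
    obtain ⟨L, hL, hpL, hrL⟩ := M.exists_max_hull (p := p) (r := r) (inv_normalizer hPi) hNP
    have hPL : P ≤ L := fun x hx => hpL ⟨hx, le_normalizer hx⟩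
    rcases M.side hpr hnp hL hp with ⟨-, -, hcr, hcp⟩ | ⟨hRL, -, -, -⟩
    · rw [eq_bot_iff]
      intro x hx
      have hxL : x ∈ L := hrL ⟨hx.1, centralizer_le_normalizer _ hx.2⟩
      obtain ⟨i, hi⟩ := pow_card_eq (syl h r).2 hx.1
      refine hcr ▸ mem_co_of_centralizes h hL.inv (M.solv L hL.inv (M.ne_top_of_pi hL.pi)) hxL hi
        fun t ht htr => ?_
      rcases eq_or_ne t p with rfl | htp
      · rw [hcp]; exact hx.2
      · rw [co_eq_bot_of_pi hL.pi ht htp htr]
        exact mem_centralizer_iff.2 fun z hz => by simp [mem_bot.1 hz]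
    · exact absurd ⟨L, hL.inv, hL.pi, hPL, hRL⟩ hnp
  have hcover : ∀ c : A, c ≠ 1 → R ⊓ fx φ c ≤ normalizer (P : Set G) ∨
      P ⊓ fx φ c ≤ normalizer (R : Set G) := by
    intro c hc
    have hne : fx φ c ≠ ⊤ := fun e => by
      letI : CommGroup G := { (inferInstance : Group G) with
        mul_comm := fun x y => (h.comm c hc x y (e.ge (mem_top x)) (e.ge (mem_top y))).eq }
      exact M.notSolv inferInstance
    obtain ⟨L, hL, hpL, hrL⟩ := M.exists_max_hull (p := p) (r := r) (inv_fx c) hne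
    rcases M.side hpr hnp hL hp with ⟨-, hN, -, -⟩ | ⟨-, hN, -, -⟩
    · exact Or.inl (hrL.trans hN)
    · exact Or.inr (hpL.trans hN)
  have step : ∀ c : A, c ≠ 1 → R ⊓ fx φ c ⊓ normalizer (P : Set G) ≠ ⊥ →
      ∀ b : A, b ∉ zpowers c → R ⊓ fx φ b ≤ normalizer (P : Set G) := by
    intro c hc hU b hb
    refine (hcover b (ne_one_of_notMem hb)).resolve_right fun hPb => hU ?_
    set U := R ⊓ fx φ c ⊓ normalizer (P : Set G)
    have hUr : IsPGroup r U := (syl h r).2.to_le (inf_le_left.trans inf_le_left)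
    have hUc : U ≤ centralizer (P : Set G) := by
      refine le_centralizer_of_line h (syl h p).2 hPi
        (inv_inf (inv_inf (inv_syl h r) (inv_fx c)) (inv_normalizer hPi)) hc hb
        (fun x hx => hx.1.2) (fun x hx => hx.2) ?_ ?_
      · obtain ⟨i, hi⟩ := IsPGroup.iff_card.1 hUr
        rw [hi]
        exact ((Nat.coprime_primes Fact.out Fact.out).2 hpr.symm).pow_left i
      · intro u hu x hx hxb
        exact (commute_of_normalize hpr (syl h p).2 (syl h r).2 hx hu.1.1 (hPb ⟨hx, hxb⟩) hu.2).symm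
    rw [eq_bot_iff, ← hcent]
    exact le_inf (inf_le_left.trans inf_le_left) hUc
  by_contra hU
  by_cases hone : ∃ b : A, b ∉ zpowers a ∧ R ⊓ fx φ b ≠ ⊥
  · obtain ⟨b, hb, hRb⟩ := hone
    have hbN := step a ha hU b hb
    have hUb : R ⊓ fx φ b ⊓ normalizer (P : Set G) ≠ ⊥ := by rwa [inf_eq_left.2 hbN]
    have hRN : R ≤ normalizer (P : Set G) := by
      refine le_of_fixed_le h (inv_syl h r) fun c hc => ?_
      by_cases hcb : c ∈ zpowers b
      · refine step a ha hU c fun hca => hb ?_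
        exact zpowers_le.2 hca (mem_zpowers_of_mem h.exp hcb hc)
      · exact step b (ne_one_of_notMem hb) hUb c hcb
    obtain ⟨L, hL, hpL, hrL⟩ := M.exists_max_hull (p := p) (r := r) (inv_normalizer hPi) hNP
    exact hnp ⟨L, hL.inv, hL.pi, fun x hx => hpL ⟨hx, le_normalizer hx⟩,
      fun x hx => hrL ⟨hx, hRN hx⟩⟩
  · push Not at hone
    refine M.not_le_fx hr ha (le_of_fixed_le h (inv_syl h r) fun c hc x hx => ?_)
    by_cases hca : c ∈ zpowers a
    · obtain ⟨i, hi⟩ := (isOfFinOrder_of_finite c).mem_powers_iff_mem_zpowers.2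
        (mem_zpowers_of_mem h.exp hca hc)
      show φ a x = x
      simp only at hi
      rw [← hi, map_pow, pow_apply_fixed hx.2]
    · rw [mem_bot.1 ((hone c hca).le hx)]; exact one_mem _

theorem perm_symm {h : Hyp q φ} (hperm : Perm h p r) : Perm h r p := by
  obtain ⟨H, h1, h2, h3, h4⟩ := hperm
  exact ⟨H, h1, h2.symm, h4, h3⟩

/-- The pairwise statement. -/
theorem Min.perm (M : Min q φ) (hpr : p ≠ r) (hp : p ∣ Nat.card G) (hr : r ∣ Nat.card G) :
    Perm M.hyp p r := by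
  wlog hr2 : r ≠ 2 generalizing p r
  · push Not at hr2
    subst hr2
    exact perm_symm (this hpr.symm hr hp hpr)
  by_contra hnp
  have h := M.hyp
  set P := (syl h p : Subgroup G)
  set R := (syl h r : Subgroup G)
  have hkey : ∀ c : A, c ≠ 1 → R ⊓ fx φ c = ⊥ ∨ P ⊓ fx φ c = ⊥ := by
    intro c hc
    have hne : fx φ c ≠ ⊤ := fun e => by
      letI : CommGroup G := { (inferInstance : Group G) with
        mul_comm := fun x y => (h.comm c hc x y (e.ge (mem_top x)) (e.ge (mem_top y))).eq }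
      exact M.notSolv inferInstance
    obtain ⟨L, hL, hpL, hrL⟩ := M.exists_max_hull (p := p) (r := r) (inv_fx c) hne
    rcases M.side hpr hnp hL hp with ⟨-, hN, -, -⟩ | ⟨-, hN, -, -⟩
    · refine Or.inl (le_bot_iff.1 ((le_inf le_rfl (hrL.trans hN)).trans ?_))
      exact (M.cross_bot hpr hnp hp hr hc).le
    · refine Or.inr (le_bot_iff.1 ((le_inf le_rfl (hpL.trans hN)).trans ?_))
      exact (M.cross_bot hpr.symm (fun e => hnp (perm_symm e)) hr hp hc).le
  obtain ⟨b, hb1, hb⟩ : ∃ b : A, b ≠ 1 ∧ P ⊓ fx φ b ≠ ⊥ := by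
    by_contra hcon
    push Not at hcon
    have h1 := (syl h p).dvd_card_of_dvd_card hp
    rw [le_bot_iff.1 (le_of_fixed_le h (inv_syl h p) (T := ⊥) fun a ha => (hcon a ha).le),
      card_bot, Nat.dvd_one] at h1
    exact (Fact.out (p := p.Prime)).ne_one h1
  obtain ⟨c, hc, hcP⟩ : ∃ c : A, c ∉ zpowers b ∧ P ⊓ fx φ c ≠ ⊥ := by
    by_contra hcon
    push Not at hcon
    refine M.not_le_fx hp hb1 (le_of_fixed_le h (inv_syl h p) fun a ha x hx => ?_)
    by_cases hab : a ∈ zpowers b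
    · obtain ⟨i, hi⟩ := (isOfFinOrder_of_finite a).mem_powers_iff_mem_zpowers.2
        (mem_zpowers_of_mem h.exp hab ha)
      show φ b x = x
      simp only at hi
      rw [← hi, map_pow, pow_apply_fixed hx.2]
    · rw [mem_bot.1 ((hcon a hab).le hx)]; exact one_mem _
  exact M.not_two_empty hr2 hr hb1 hc ((hkey b hb1).resolve_right hb)
    ((hkey c (ne_one_of_notMem hc)).resolve_right hcP)

end CfsgLib.Solvable.AbCent
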