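import Cfsg.Agent.Lib.Solvable.AbelianCentralizers.Weight
import Cfsg.Agent.Lib.Solvable.AbelianCentralizers.Cores
import Cfsg.Agent.Lib.Transfer.PSolvable
import Cfsg.Agent.Lib.Transfer.SolvablePSolvable
import Cfsg.Agent.Lib.Transfer.Frobenius
import Cfsg.Agent.Lib.PStab.Complement

/-!
In a minimal counterexample no Sylow subgroup is fixed by a line, and for an odd prime at most one line
misses the invariant Sylow subgroup.
-/

set_option autoImplicit false

namespace CfsgLib.Solvable.AbCent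

open Subgroup CfsgLib.FGS.NilpotentMaximal Cfsg

universe u

variable {A : Type*} [CommGroup A] [Finite A] {q : ℕ} [hq : Fact q.Prime]
  {G : Type u} [Group G] [Finite G] {φ : A →* MulAut G}

/-- A minimal counterexample. -/
structure Min (q : ℕ) (φ : A →* MulAut G) : Prop where
  hyp : Hyp q φ
  solv : ∀ H : Subgroup G, Inv φ H → H ≠ ⊤ → Group.IsSolvable H
  simp : ∀ N : Subgroup G, N.Normal → Inv φ N → N = ⊥ ∨ N = ⊤
  notSolv : ¬ Group.IsSolvable G

theorem Min.ne_top_of_isPGroup (M : Min q φ) {p : ℕ} [Fact p.Prime] {H : Subgroup G}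
    (hH : IsPGroup p H) : H ≠ ⊤ := by
  intro e
  subst e
  haveI := hH.isNilpotent
  haveI : Group.IsNilpotent G := Group.nilpotent_of_mulEquiv (G := (⊤ : Subgroup G)) topEquiv
  exact M.notSolv inferInstance

theorem Min.normalizer_ne_top (M : Min q φ) {X : Subgroup G} (hXi : Inv φ X) (hX : X ≠ ⊥)
    (hXt : X ≠ ⊤) : normalizer (X : Set G) ≠ ⊤ := by
  intro e
  rcases M.simp X (normalizer_eq_top_iff.1 e) hXi with h | h
  · exact hX h
  · exact hXt h

theorem Min.centralizer_ne_top (M : Min q φ) {X : Subgroup G} (hXi : Inv φ X) (hX : X ≠ ⊥)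
    (hXt : X ≠ ⊤) : centralizer (X : Set G) ≠ ⊤ := fun e =>
  M.normalizer_ne_top hXi hX hXt (top_le_iff.1 (e.ge.trans (centralizer_le_normalizer _)))

theorem pow_card_eq {p : ℕ} {P : Subgroup G} (hP : IsPGroup p P) {x : G} (hx : x ∈ P) :
    ∃ k : ℕ, x ^ p ^ k = 1 := by
  obtain ⟨k, hk⟩ := hP ⟨x, hx⟩
  exact ⟨k, congrArg Subtype.val hk⟩

/-- The elements of order prime to `p` fixed by one operator in the normalizer of an invariant `p`-group
centralize it when another line has no fixed point in it. -/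
theorem centralizes_of_empty (h : Hyp q φ) {p : ℕ} [Fact p.Prime] {X : Subgroup G} (hXp : IsPGroup p X)
    (hXi : Inv φ X) {a b : A} (ha : a ≠ 1) (hb : b ∉ zpowers a) (he : X ⊓ fx φ b = ⊥) {x : G}
    (hxN : x ∈ normalizer (X : Set G)) (hxa : φ a x = x) (hxp : (orderOf x).Coprime p) :
    x ∈ centralizer (X : Set G) := by
  have hfx : ∀ y ∈ normalizer (X : Set G) ⊓ fx φ a, ∀ z ∈ normalizer (X : Set G) ⊓ fx φ a,
      Commute y z := fun y hy z hz => h.comm a ha y z hy.2 hz.2
  let U : Subgroup G :=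
    { carrier := {y | y ∈ normalizer (X : Set G) ⊓ fx φ a ∧ (orderOf y).Coprime p}
      one_mem' := ⟨one_mem _, by simp⟩
      mul_mem' := fun {y z} hy hz => ⟨mul_mem hy.1 hz.1,
        Nat.Coprime.coprime_dvd_left ((hfx y hy.1 z hz.1).orderOf_mul_dvd_mul_orderOf)
          (hy.2.mul_left hz.2)⟩
      inv_mem' := fun {y} hy => ⟨inv_mem hy.1, by rw [orderOf_inv]; exact hy.2⟩ }
  have hUi : Inv φ U := fun c y hy =>
    ⟨inv_inf (inv_normalizer hXi) (inv_fx a) c y hy.1, by rw [MulEquiv.orderOf_eq]; exact hy.2⟩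
  have hUp : (Nat.card U).Coprime p := by
    refine Nat.Coprime.symm ((Fact.out (p := p.Prime)).coprime_iff_not_dvd.2 fun hd => ?_)
    obtain ⟨⟨y, hy⟩, ho⟩ := exists_prime_orderOf_dvd_card' (G := U) p hd
    rw [orderOf_mk] at ho
    have := hy.2
    rw [ho, Nat.coprime_self] at this
    exact (Fact.out (p := p.Prime)).ne_one this
  exact le_centralizer_of_line h hXp hXi hUi ha hb (fun y hy => hy.1.2) (fun y hy => hy.1.1) hUp
    (fun u _ y hy hyb => by
      rw [show y = 1 from mem_bot.1 (he.le ⟨hy, hyb⟩), mul_one, one_mul]) ⟨⟨hxN, hxa⟩, hxp⟩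

/-- With two empty lines, a solvable group is `p`-nilpotent. -/
theorem hasNormalPComplement_of_two_empty (h : Hyp q φ) [Group.IsSolvable G] {p : ℕ} [Fact p.Prime]
    {b c : A} (hb1 : b ≠ 1) (hc : c ∉ zpowers b)
    (hb : ∀ (x : G) (k : ℕ), x ^ p ^ k = 1 → φ b x = x → x = 1)
    (hc' : ∀ (x : G) (k : ℕ), x ^ p ^ k = 1 → φ c x = x → x = 1) : HasNormalPComplement p G := by
  set N := pPrimeCore p G with hNdef
  haveI hNc : N.Characteristic := CfsgLib.Cores.pPrimeCore_characteristic p
  have hNi : Inv φ N := inv_of_characteristic hNc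
  have hNcop : (Nat.card N).Coprime p := CfsgLib.Cores.coprime_card_pPrimeCore p
  have h' := h.quot_hyp N hNi
  have hO : pPrimeCore p (G ⧸ N) = ⊥ := CfsgLib.Cores.pPrimeCore_quotient_self (G := G) p
  set F := pCore p (G ⧸ N)
  have hFp : IsPGroup p F := CfsgLib.Cores.isPGroup_pCore p
  have hFi : Inv (quotAction φ N hNi) F := inv_of_characteristic (CfsgLib.Cores.pCore_characteristic p)
  have hempty : ∀ d : A, (∀ (x : G) (k : ℕ), x ^ p ^ k = 1 → φ d x = x → x = 1) →
      F ⊓ fx (quotAction φ N hNi) d = ⊥ := by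
    intro d hd
    rw [eq_bot_iff]
    rintro xb ⟨hxF, hxd⟩
    obtain ⟨k, hk⟩ := pow_card_eq hFp hxF
    obtain ⟨x, rfl⟩ := QuotientGroup.mk'_surjective N xb
    obtain ⟨z, hz, hzd⟩ := exists_lift h.exp (not_dvd_subgroup h N) hNi
      (QuotientGroup.eq.1 (show QuotientGroup.mk' N x = QuotientGroup.mk' N (φ d x) from hxd.symm))
    have hzx : QuotientGroup.mk' N z = QuotientGroup.mk' N x := QuotientGroup.eq.2 hz
    rw [mem_bot, ← hzx]
    have h1 : z ^ Nat.card N = 1 := hd _ k (by
      rw [← pow_mul, mul_comm, pow_mul]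
      exact congrArg Subtype.val (pow_card_eq_one' (x := (⟨z ^ p ^ k,
        (QuotientGroup.eq_one_iff _).1 (show QuotientGroup.mk' N (z ^ p ^ k) = 1 by
          rw [map_pow, hzx, hk])⟩ : N)))) (by rw [map_pow, hzd])
    have hcop' : (Nat.card N).Coprime (p ^ k) := hNcop.pow_right k
    have h2 : QuotientGroup.mk' N z ^ Nat.card N = 1 := by rw [← map_pow, h1, map_one]
    rw [← orderOf_eq_one_iff]
    exact Nat.eq_one_of_dvd_coprimes hcop' (orderOf_dvd_of_pow_eq_one h2)
      (orderOf_dvd_of_pow_eq_one (by rw [hzx]; exact hk))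
  haveI : F.Normal := by
    haveI := CfsgLib.Cores.pCore_characteristic (G := G ⧸ N) p
    infer_instance
  have hall : (⊤ : Subgroup (G ⧸ N)) ≤ (syl h' p : Subgroup (G ⧸ N)) := by
    refine le_of_fixed_le h' (fun _ _ _ => mem_top _) fun a ha => ?_
    refine fx_le_of_pieces h' ha fun t _ x hx => ?_
    rcases eq_or_ne t p with rfl | htp
    · exact hx.2
    · obtain ⟨k, hk⟩ := pow_card_eq (syl h' t).2 hx.2
      have hcop : (orderOf x).Coprime p := Nat.Coprime.coprime_dvd_left (orderOf_dvd_of_pow_eq_one hk)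
        (((Nat.coprime_primes Fact.out Fact.out).2 htp).pow_left k)
      have hxN : x ∈ normalizer (F : Set (G ⧸ N)) := by rw [normalizer_eq_top]; exact mem_top x
      have hcent : x ∈ centralizer (F : Set (G ⧸ N)) := by
        by_cases hba : b ∈ zpowers a
        · refine centralizes_of_empty h' hFp hFi ha (fun hca => hc ?_) (hempty c hc') hxN hx.1.2 hcop
          exact zpowers_le.2 (mem_zpowers_of_mem h.exp hba hb1) hca
        · exact centralizes_of_empty h' hFp hFi ha hba (hempty b hb) hxN hx.1.2 hcop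
      have hmem := CfsgLib.Transfer.centralizer_pCore_le_of_isPSolvable
        (CfsgLib.Transfer.isPSolvable_of_isSolvable p (G := G ⧸ N) inferInstance) hO hcent
      obtain ⟨j, hj⟩ := pow_card_eq hFp hmem
      have hx1 : x = 1 := by
        rw [← orderOf_eq_one_iff]
        exact Nat.eq_one_of_dvd_coprimes (hcop.pow_right j) dvd_rfl (orderOf_dvd_of_pow_eq_one hj)
      rw [hx1]; exact one_mem _
  obtain ⟨e, he⟩ := IsPGroup.iff_card.1 ((syl h' p).2)
  refine CfsgLib.Transfer.hasNormalPComplement_of (inferInstance : N.Normal) hNcop (k := e) ?_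
  rw [index_eq_card, ← he, top_le_iff.1 hall, card_top]

theorem not_hasNormalPComplement (M : Min q φ) {p : ℕ} [Fact p.Prime] (hp : p ∣ Nat.card G) :
    ¬ HasNormalPComplement p G := by
  intro hn
  obtain ⟨N, hN, hc, k, hk⟩ := CfsgLib.Transfer.hasNormalPComplement_iff.1 hn
  have hNi : Inv φ N := fun a x hx => by
    rw [CfsgLib.Transfer.mem_iff_coprime_orderOf hc hk] at hx ⊢
    rwa [MulEquiv.orderOf_eq]
  rcases M.simp N hN hNi with e | e
  · rw [e, index_bot] at hk
    exact M.ne_top_of_isPGroup ((IsPGroup.of_card hk).to_subgroup ⊤) rfl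
  · rw [e, card_top] at hc
    exact (Fact.out (p := p.Prime)).ne_one (Nat.eq_one_of_dvd_coprimes hc hp dvd_rfl)

/-- No invariant Sylow subgroup lies in the fixed points of one operator. -/
theorem Min.not_le_fx (M : Min q φ) {p : ℕ} [Fact p.Prime] (hp : p ∣ Nat.card G) {a : A} (ha : a ≠ 1) :
    ¬ (syl M.hyp p : Subgroup G) ≤ fx φ a := by
  intro hle
  have h := M.hyp
  set P := (syl h p : Subgroup G) with hP
  have hPi : Inv φ P := inv_syl h p
  have hcent : normalizer (P : Set G) ≤ centralizer (P : Set G) := by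
    refine le_of_fixed_le h (inv_normalizer hPi) fun c hc => fx_le_of_pieces h hc fun t _ x hx => ?_
    obtain ⟨k, hk⟩ := pow_card_eq (syl h t).2 hx.2
    rcases eq_or_ne t p with rfl | htp
    · rw [mem_centralizer_iff]
      exact fun y hy => (h.comm a ha y x (hle hy) (hle hx.2)).eq
    · obtain ⟨b, hba, hbc⟩ := exists_notMem_two h a c
      exact centralizes_of_empty h (syl h p).2 hPi hc hbc (inf_fx_eq_bot h ha hba hle) hx.1.1 hx.1.2
        (Nat.Coprime.coprime_dvd_left (orderOf_dvd_of_pow_eq_one hk)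
          (((Nat.coprime_primes Fact.out Fact.out).2 htp).pow_left k))
  exact not_hasNormalPComplement M hp
    (CfsgLib.Transfer.hasNormalPComplement_of_normalizer_le_centralizer (syl h p) hcent)

/-- For an odd prime two different lines cannot both miss the invariant Sylow subgroup. -/
theorem Min.not_two_empty (M : Min q φ) {p : ℕ} [Fact p.Prime] (hp2 : p ≠ 2) (hp : p ∣ Nat.card G)
    {b c : A} (hb1 : b ≠ 1) (hc : c ∉ zpowers b)
    (hb : (syl M.hyp p : Subgroup G) ⊓ fx φ b = ⊥) (hc' : (syl M.hyp p : Subgroup G) ⊓ fx φ c = ⊥) :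
    False := by
  have h := M.hyp
  set P := (syl h p : Subgroup G) with hP
  have hPi : Inv φ P := inv_syl h p
  have hPne : P ≠ ⊥ := fun e => by
    have := (syl h p).dvd_card_of_dvd_card hp
    rw [← hP, e, card_bot, Nat.dvd_one] at this
    exact (Fact.out (p := p.Prime)).ne_one this
  have hPp : IsPGroup p P := (syl h p).2
  have key : ∀ H : Subgroup G, Inv φ H → H ≠ ⊤ → HasNormalPComplement p H := by
    intro H hHi hH
    haveI := M.solv H hHi hH
    refine hasNormalPComplement_of_two_empty (h.res_hyp hHi) hb1 hc ?_ ?_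
    · intro x k hk hx
      exact Subtype.ext (mem_bot.1 (hb.le ⟨mem_syl_of_fixed h hb1 (congrArg Subtype.val hx)
        (congrArg Subtype.val hk), congrArg Subtype.val hx⟩))
    · intro x k hk hx
      exact Subtype.ext (mem_bot.1 (hc'.le ⟨mem_syl_of_fixed h (ne_one_of_notMem hc)
        (congrArg Subtype.val hx) (congrArg Subtype.val hk), congrArg Subtype.val hx⟩))
  have hmap : ∀ a, P.map (φ a).toMonoidHom = P := fun a => inv_map hPi a
  have hJi : Inv φ (CfsgLib.PStab.jGen p P) := by
    intro a x hx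
    have h1 := CfsgLib.PStab.jGen_map (e := p) (f := (φ a).toMonoidHom) (φ a).injective P
    rw [hmap] at h1
    rw [h1] at *
    exact ⟨x, hx, rfl⟩
  have hZi : Inv φ (CfsgLib.PStab.zSyl P) := inv_inf hPi (inv_centralizer hPi)
  refine not_hasNormalPComplement M hp
    (CfsgLib.PStab.hasNormalPComplement_of_thompson hp2 (syl h p) (key _ (inv_normalizer hJi) ?_)
      (key _ (inv_centralizer hZi) ?_))
  · exact M.normalizer_ne_top hJi (CfsgLib.PStab.jGen_ne_bot (Or.inr rfl) hPp hPne)
      (M.ne_top_of_isPGroup (hPp.to_le (CfsgLib.PStab.jGen_le p P)))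
  · refine M.centralizer_ne_top hZi (fun e => ?_) (M.ne_top_of_isPGroup (hPp.to_le inf_le_left))
    obtain ⟨x, hx, hx1, -⟩ := CfsgLib.PStab.exists_pow_one_center hPp le_rfl hPne le_normalizer
    exact hx1 (mem_bot.1 (e.le hx.2))

end CfsgLib.Solvable.AbCent
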