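import Cfsg.Agent.Lib.Solvable.AbelianCentralizers.Setup
import Cfsg.Agent.Lib.PGroup.Basic

/-!
An invariant group fixed by one operator moves a `p`-group only if it moves the fixed points of every other
line.
-/

set_option autoImplicit false

namespace CfsgLib.Solvable.AbCent

open Subgroup CfsgLib.FGS.NilpotentMaximal
open scoped BigOperators commutatorElement

/-- The averaging step: a group acted on fixed-point-freely by `⟨σ⟩` fixing all `σ`-fixed points of an
abelian group of coprime order fixes everything. -/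
theorem fixed_of_frobenius {U X : Type*} [Group U] [Finite U] [CommGroup X] [Finite X]
    (ψ : U →* MulAut X) (σ : MulAut X) (τ : MulAut U) {q : ℕ} (hq0 : 0 < q) (hσ : σ ^ q = 1)
    (hτ : ∀ i, 0 < i → i < q → ∀ u, (τ ^ i) u = u → u = 1)
    (hcompat : ∀ u x, σ (ψ u x) = ψ (τ u) (σ x))
    (hcop : (Nat.card U).Coprime (Nat.card X)) (hfix : ∀ x, σ x = x → ∀ u, ψ u x = x) (v : U) (x : X) :
    ψ v x = x := by
  classical
  haveI := Fintype.ofFinite U
  have hpow : ∀ (i : ℕ) u y, (σ ^ i) (ψ u y) = ψ ((τ ^ i) u) ((σ ^ i) y) := by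
    intro i
    induction i with
    | zero => intro u y; rfl
    | succ i ih =>
      intro u y
      simp only [pow_succ', MulAut.mul_apply, ih, hcompat]
  obtain ⟨n, rfl⟩ : ∃ n, q = n + 1 := ⟨q - 1, by omega⟩
  let inner : U → X := fun u => ∏ i ∈ Finset.range (n + 1), (σ ^ i) (ψ u⁻¹ x)
  have hinner : ∀ u, σ (inner u) = inner u := by
    intro u
    simp only [inner, map_prod]
    rw [Finset.prod_range_succ, Finset.prod_range_succ' (fun i => (σ ^ i) (ψ u⁻¹ x))]
    congr 1
    · exact Finset.prod_congr rfl fun i _ => by rw [pow_succ' σ i, MulAut.mul_apply]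
    · rw [← MulAut.mul_apply, ← pow_succ', hσ, pow_zero]
  have h1 : ∀ w, ψ w (∏ u, ψ u (inner u)) = ∏ u, ψ u (inner u) := by
    intro w
    rw [map_prod]
    refine Finset.prod_congr rfl fun u _ => ?_
    rw [hfix _ (hinner u) u, hfix _ (hinner u) w]
  let N : X → X := fun y => ∏ u, ψ u y
  have hN : ∀ w y, ψ w (N y) = N y := by
    intro w y
    simp only [N, map_prod, ← MulAut.mul_apply, ← map_mul]
    exact Equiv.prod_comp (Equiv.mulLeft w) (fun u => ψ u y)
  have h2 : ∏ u, ψ u (inner u) =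
      (∏ i ∈ Finset.range n, N ((σ ^ (i + 1)) x)) * x ^ Fintype.card U := by
    simp only [inner, map_prod, hpow]
    rw [Finset.prod_comm, Finset.prod_range_succ']
    congr 1
    · refine Finset.prod_congr rfl fun i hi => ?_
      have hb : Function.Bijective (fun u : U => u * (τ ^ (i + 1)) u⁻¹) := by
        refine Finite.injective_iff_bijective.1 fun u w e => ?_
        have e' : w⁻¹ * u = (τ ^ (i + 1)) (w⁻¹ * u) := by
          have e : u * (τ ^ (i + 1)) u⁻¹ = w * (τ ^ (i + 1)) w⁻¹ := e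
          rw [map_mul]
          calc w⁻¹ * u = w⁻¹ * (u * (τ ^ (i + 1)) u⁻¹) * (τ ^ (i + 1)) u := by
                rw [map_inv]; group
            _ = w⁻¹ * (w * (τ ^ (i + 1)) w⁻¹) * (τ ^ (i + 1)) u := by rw [e]
            _ = _ := by group
        exact (inv_mul_eq_one.1 (hτ (i + 1) (Nat.succ_pos i) (by simpa using hi) _ e'.symm)).symm
      refine (Finset.prod_congr rfl fun u _ => ?_).trans
        (hb.prod_comp (fun u => ψ u ((σ ^ (i + 1)) x)))
      rw [← MulAut.mul_apply, ← map_mul]
    · rw [← Finset.card_univ, ← Finset.prod_const]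
      refine Finset.prod_congr rfl fun u _ => ?_
      simp only [pow_zero, MulAut.one_apply, ← MulAut.mul_apply, ← map_mul, mul_inv_cancel, map_one]
  have h3 : ψ v (x ^ Fintype.card U) = x ^ Fintype.card U := by
    have h := h1 v
    rw [h2, map_mul, map_prod, Finset.prod_congr rfl fun i _ => hN v ((σ ^ (i + 1)) x)] at h
    exact mul_left_cancel h
  rw [map_pow, ← Nat.card_eq_fintype_card] at h3
  exact hcop.symm.pow_left_bijective.injective h3

universe u

variable {A : Type*} [CommGroup A] [Finite A] {q : ℕ} [hq : Fact q.Prime]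
  {G : Type u} [Group G] [Finite G] {φ : A →* MulAut G}

/-- The weight lemma. -/
theorem le_centralizer_of_line (h : Hyp q φ) {p : ℕ} [Fact p.Prime] {X U : Subgroup G}
    (hXp : IsPGroup p X) (hXi : Inv φ X) (hUi : Inv φ U) {a b : A} (ha : a ≠ 1) (hb : b ∉ zpowers a)
    (hUa : U ≤ fx φ a) (hUn : U ≤ normalizer (X : Set G)) (hUp : (Nat.card U).Coprime p)
    (hc : ∀ u ∈ U, ∀ x ∈ X, φ b x = x → u * x = x * u) : U ≤ centralizer (X : Set G) := by
  classical
  let θ : U →* MulAut X := (normalizerMonoidHom X).comp (Subgroup.inclusion hUn)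
  have hθ : ∀ (u : U) (x : X), ((θ u x : X) : G) = u * x * (u : G)⁻¹ := fun u x => rfl
  set Φ := frattini (X : Type u) with hΦ
  haveI : Φ.Characteristic := frattini_characteristic
  have hΦi : Inv (res φ X hXi) Φ := inv_of_characteristic inferInstance
  letI : CommGroup (X ⧸ Φ) :=
    { (inferInstance : Group (X ⧸ Φ)) with
      mul_comm := fun x y => by
        obtain ⟨x, rfl⟩ := QuotientGroup.mk_surjective x
        obtain ⟨y, rfl⟩ := QuotientGroup.mk_surjective y
        rw [← QuotientGroup.mk_mul, ← QuotientGroup.mk_mul, QuotientGroup.eq]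
        exact CfsgLib.PGroup.commutator_le_frattini hXp (by
          rw [show (x * y)⁻¹ * (y * x) = ⁅y⁻¹, x⁻¹⁆ by rw [commutatorElement_def]; group]
          exact commutator_mem_commutator (mem_top _) (mem_top _)) }
  let ψ : U →* MulAut (X ⧸ Φ) :=
    (quotientHom θ.range Φ fun y _ x hx => CfsgLib.Solvable.apply_mem_of_characteristic y Φ hx).comp
      θ.rangeRestrict
  have hψ : ∀ (u : U) (x : X), ψ u (QuotientGroup.mk x) = QuotientGroup.mk (θ u x) := fun _ _ => rfl
  let σ := quotAction (res φ X hXi) Φ hΦi b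
  let τ := res φ U hUi b
  obtain ⟨j, hj⟩ := IsPGroup.iff_card.1 hXp
  have hXcop : (Nat.card U).Coprime (Nat.card X) := by rw [hj]; exact hUp.pow_right j
  have hcomm : ∀ (u : U) (x : X), φ b (θ u x : G) = (θ (τ u) (res φ X hXi b x) : G) := by
    intro u x
    simp only [hθ, τ, res_coe, map_mul, map_inv]
  have hqΦ : ¬ q ∣ Nat.card Φ := fun hd =>
    not_dvd_subgroup h X (hd.trans Φ.card_subgroup_dvd_card)
  have hkey : ∀ (v : U) (x : X ⧸ Φ), ψ v x = x := by
    refine fixed_of_frobenius ψ σ τ hq.out.pos (by rw [← map_pow, h.exp, map_one]) ?_ ?_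
      (hXcop.coprime_dvd_right Φ.card_quotient_dvd_card) ?_
    · intro i hi hiq u hu
      rw [← map_pow] at hu
      exact Subtype.ext (fixed_of_two h ha (pow_notMem_of_notMem h.exp hb hi hiq) (hUa u.2)
        (congrArg Subtype.val hu))
    · intro u x
      obtain ⟨x, rfl⟩ := QuotientGroup.mk_surjective x
      exact congrArg QuotientGroup.mk (Subtype.ext (hcomm u x))
    · intro x hx u
      obtain ⟨x, rfl⟩ := QuotientGroup.mk_surjective x
      obtain ⟨z, hz, hzb⟩ := exists_lift h.exp hqΦ hΦi (φ := res φ X hXi) (a := b) (x := x)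
        (QuotientGroup.eq.1 hx.symm)
      rw [← QuotientGroup.eq.2 hz, hψ]
      refine congrArg _ (Subtype.ext ?_)
      rw [hθ, hc u u.2 z z.2 (congrArg Subtype.val hzb), mul_inv_cancel_right]
  intro u hu
  refine CfsgLib.Transfer.mem_of_prime_pow_powers _ (isOfFinOrder_of_finite u) fun w hw ℓ m hℓ hm hord => ?_
  haveI := Fact.mk hℓ
  have hwU : w ∈ U := zpowers_le.2 hu hw
  have hℓΦ : ¬ ℓ ∣ Nat.card Φ := by
    intro hd
    refine hℓ.ne_one (Nat.eq_one_of_dvd_coprimes hXcop ?_ (hd.trans Φ.card_subgroup_dvd_card))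
    refine dvd_trans (hord ▸ dvd_pow_self ℓ hm.ne') ?_
    exact orderOf_dvd_natCard U hwU
  have hfix : ∀ x : X, θ ⟨w, hwU⟩ x = x := by
    let F : Subgroup X := MonoidHom.eqLocus (θ ⟨w, hwU⟩).toMonoidHom (MonoidHom.id X)
    have htop : F ⊔ Φ = ⊤ := by
      refine eq_top_iff.2 fun x _ => ?_
      obtain ⟨z, hz, hzfix⟩ := exists_fixed_in_coset (φ := θ ⟨w, hwU⟩) (m := m)
        (by rw [← map_pow, show (⟨w, hwU⟩ : U) ^ ℓ ^ m = 1 from
          Subtype.ext (by rw [← hord]; exact pow_orderOf_eq_one w), map_one]) hℓΦ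
        (fun y hy => CfsgLib.Solvable.apply_mem_of_characteristic _ Φ hy) (x := x)
        (QuotientGroup.eq.1 (hkey ⟨w, hwU⟩ (QuotientGroup.mk x)).symm)
      rw [← mul_inv_cancel_left z x]
      exact mul_mem (mem_sup_left hzfix) (mem_sup_right hz)
    have := frattini_nongenerating htop
    exact fun x => (this.ge (mem_top x) : x ∈ F)
  refine mem_centralizer_iff.2 fun x hx => ?_
  have h1 := congrArg Subtype.val (hfix ⟨x, hx⟩)
  rw [hθ] at h1
  exact (mul_inv_eq_iff_eq_mul.1 h1).symm

end CfsgLib.Solvable.AbCent
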